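import Cfsg.Agent.PG.BG14.Pure
import Cfsg.Agent.PG.BG13.T10

/-!
B & G, section 14: the `σ`-length, and Lemma 14.1.
-/

set_option autoImplicit false
set_option linter.unusedSectionVars false

open Pointwise Cfsg Cfsg.Lib.Solv

namespace Cfsg.Lib.FT.PG

variable {G : Type*} [Group G] [Dl G] [Finite G]

/-- B & G 13.9 in the form used here: the sets `σ(M)` are equal or disjoint -/
theorem sigma_eq_or_disjoint (hG : Ctx G) {M H : Subgroup G} (hM : Mx M)
    (hH : Mx H) : sigma M = sigma H ∨ Disjoint (sigma M) (sigma H) := by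
  by_cases h : ConjIn ⊤ M H
  · obtain ⟨g, -, rfl⟩ := h
    exact Or.inl (sigmaJ g M).symm
  · exact Or.inr (sigma_partition hG hM hH h)

theorem sigma_decomposition_constt' (hG : Ctx G) {M : Subgroup G}
    (hM : Mx M) (x : G) :
    sigmaDecomp (constt (sigma M)ᶜ x) = sigmaDecomp x \ {constt (sigma M) x} := by
  ext y
  constructor
  · rintro ⟨hy1, H, hH, rfl⟩
    rcases sigma_eq_or_disjoint hG hH hM with h | h
    · exact absurd (constt1P.2 (h ▸ p_elt_constt _ x)) hy1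
    · have e : constt (sigma H) (constt (sigma M)ᶜ x) = constt (sigma H) x :=
        constt_constt_of_subset (Set.disjoint_left.1 h) x
      rw [e] at hy1 ⊢
      refine ⟨mem_sigma_decomposition hH hy1, fun he => hy1 ?_⟩
      exact p_elt_eq_one_of_disjoint h (p_elt_constt _ x) (he ▸ p_elt_constt _ x)
  · rintro ⟨⟨hy1, H, hH, rfl⟩, hne⟩
    rcases sigma_eq_or_disjoint hG hH hM with h | h
    · exact absurd (by rw [h]; rfl) hne
    · exact ⟨hy1, H, hH, (constt_constt_of_subset (Set.disjoint_left.1 h) x).symm⟩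

/-- a non-identity `σ(M)`-element of `G` has `ℓ_σ = 1` -/
theorem sigma_elt_ell1 (hG : Ctx G) {M : Subgroup G} (hM : Mx M) {x : G}
    (hx : PiElt (sigma M) x) (hx1 : x ≠ 1) : Ell1 x ∧ ∃ g : G, g •ᶜ M ∈ sigmaMmax x := by
  obtain ⟨g, hg⟩ := (sigma_Jsub hG hM (pgroup_zpowers.2 hx)
    (fun h => hx1 (Subgroup.zpowers_eq_bot.1 h))).1
  have h : g⁻¹ •ᶜ M ∈ sigmaMmax x := by
    refine ⟨(mmaxJ _).2 hM, ?_⟩
    rw [MsigmaJ]
    exact conj_smul_le_iff_le_conj_inv_smul.1 hg (Subgroup.mem_zpowers x)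
  exact ⟨⟨hx1, _, h⟩, _, h⟩

theorem ell1_decomposition (hG : Ctx G) {x : G} (h : Ell1 x) :
    sigmaDecomp x = {x} := by
  obtain ⟨hx1, M, hM⟩ := h
  have hx := sigma_mmax_p_elt hM
  ext y
  constructor
  · rintro ⟨hy1, H, hH, rfl⟩
    rcases sigma_eq_or_disjoint hG hM.1 hH with h | h
    · exact constt_p_elt (h ▸ hx)
    · exact absurd (constt1P.2 (sub_p_elt (Set.disjoint_left.1 h) hx)) hy1
  · rintro rfl
    exact ⟨hx1, M, hM.1, (constt_p_elt hx).symm⟩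

/-- the members of `𝓜_σ(x)` are conjugate -/
theorem sigma_mmax_conj (hG : Ctx G) {x : G} (hx1 : x ≠ 1) {M H : Subgroup G}
    (hM : M ∈ sigmaMmax x) (hH : H ∈ sigmaMmax x) : ConjIn ⊤ M H := by
  by_contra h
  exact hx1 (p_elt_eq_one_of_disjoint (sigma_partition hG hM.1 hH.1 h) (sigma_mmax_p_elt hM)
    (sigma_mmax_p_elt hH))

/-- a maximal subgroup is not a `σ(M)`-group -/
theorem mmax_not_sigma_group (hG : Ctx G) {M : Subgroup G} (hM : Mx M) :
    ¬ IsPiSubgroup (sigma M) M := fun h =>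
  (sol_der1_proper (mmax_sol hG hM) (mmax_neq1 hG hM)).not_ge
    ((sub_Msigma hG hM le_rfl h).trans (Msigma_der1 hG hM))

theorem maxP1_of_sigma_kappa_group (hG : Ctx G) {M : Subgroup G} (hM : Mx M)
    (h : IsPiSubgroup (sigmaKappa M) M) : MaxP1 M := by
  refine ⟨⟨hM, ?_⟩, h⟩
  by_contra hk
  rw [Set.not_nonempty_iff_eq_empty] at hk
  refine mmax_not_sigma_group hG hM fun r hr hd => (h r hr hd).resolve_right ?_
  rw [hk]
  exact Set.notMem_empty r

/-- `U = 1` iff `M` is of type `P1` -/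
theorem trivg_kappa_compl (hG : Ctx G) {M U K : Subgroup G} (hM : Mx M)
    (h : KappaCompl M U K) : U = ⊥ ↔ MaxP1 M := by
  rw [Hall_eq_bot_iff h.hallU, compl_compl]
  exact ⟨maxP1_of_sigma_kappa_group hG hM, fun h => h.2⟩

/-- B & G, Lemma 14.1. -/
theorem sigma'_kappa'_facts (hG : Ctx G) {M S : Subgroup G} (hM : Mx M)
    {p : ℕ} (hp : p ∈ piOf (Nat.card M)) (hσ : p ∉ sigma M) (hκ : p ∉ kappa M)
    (hS : IsSylowOf p S M) :
    Nat.card (omegaOne p S) ≤ p ^ 2 ∧ sigmaCore M ⊓ 𝐂 (omegaOne p S) = ⊥ ∧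
      Group.IsNilpotent (sigmaCore M) := by
  haveI : Fact p.Prime := ⟨hp.1⟩
  by_cases h2 : p ∈ tau2 M
  · obtain ⟨A, hA⟩ : (Elem p 2 S).Nonempty := by
      rw [← p_rank_geP, p_rank_Sylow hS, (mem_tau2_iff.1 h2).2.2]
    obtain ⟨h1, -, h3, -⟩ := tau2_context hG hM h2 (pnElemS hS.1 hA)
    rw [((h1 S hS).2 hA.1).1]
    exact ⟨hA.2.2.le, h3, tau2_Msigma_nil hG hM h2⟩
  · have h13 : p ∈ tau1 M ∨ p ∈ tau3 M := by
      rcases (partition_pi_mmax hG hM p).1 hp with h | h | h | h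
      · exact Or.inl h
      · exact absurd h h2
      · exact Or.inr h
      · exact absurd h hσ
    have hc : IsCyclic S := tau13_pgroup_cyclic hG h13 (Sylow_pgroup hS) hS.1
    have hP : omegaOne p S ∈ Elem p 1 M :=
      pnElemS hS.1 (Ohm1_cyclic_p1Elem hc (mem_pi_of_Hall_dvd hS hp.1 rfl hp.2))
    have hC : sigmaCore M ⊓ 𝐂 (omegaOne p S) = ⊥ := by
      by_contra hC
      exact hκ ((mem_kappa_iff hG).2 ⟨h13, _, hP, hC⟩)
    refine ⟨?_, hC, prime_Frobenius_sol_kernel_nil (hP.1.trans (Msigma_normal M).2)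
      (sub_mmax_sol hG hM (Msigma_normal M).1) (p1Elem_prime hP) hC⟩
    rw [hP.2.2]
    exact Nat.pow_le_pow_right hp.1.pos (by norm_num)

theorem exists_sigma'_kappa'_of_notP1 (hG : Ctx G) {M : Subgroup G}
    (h : MaxF M ∨ MaxP2 M) : ∃ p ∈ piOf (Nat.card M), p ∉ sigma M ∧ p ∉ kappa M := by
  have hM : Mx M := h.elim MaxF.max MaxP2.max
  have h1 : ¬ IsPiSubgroup (sigmaKappa M) M := fun h' =>
    (not_maxP1_iff hM).2 h (maxP1_of_sigma_kappa_group hG hM h')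
  by_contra hc
  push Not at hc
  refine h1 fun r hr hd => ?_
  by_cases hs : r ∈ sigma M
  · exact Or.inl hs
  · exact Or.inr (hc r ⟨hr, hd⟩ hs)

theorem notP1type_Msigma_nil (hG : Ctx G) {M : Subgroup G}
    (h : MaxF M ∨ MaxP2 M) : Group.IsNilpotent (sigmaCore M) := by
  obtain ⟨p, hp, hσ, hκ⟩ := exists_sigma'_kappa'_of_notP1 hG h
  haveI : Fact p.Prime := ⟨hp.1⟩
  obtain ⟨S, hS⟩ := Sylow_exists p M
  exact (sigma'_kappa'_facts hG (h.elim MaxF.max MaxP2.max) hp hσ hκ hS).2.2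

end Cfsg.Lib.FT.PG
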