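import Cfsg.Agent.PG.BG14Defs
import Cfsg.Agent.PG.BG10.Core

/-!
B & G, section 14: the remarks on the `σ`-decomposition and on `κ(M)` that hold in any finite group.
-/

set_option autoImplicit false
set_option linter.unusedSectionVars false

open Pointwise Cfsg Cfsg.Lib.Solv

namespace Cfsg.Lib.FT.PG

variable {G : Type*} [Group G] [Dl G] [Finite G]

/-! ### The σ-decomposition -/

omit [Finite G] in
theorem mem_sigma_decomposition {M : Subgroup G} (hM : Mx M) {x : G}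
    (h : constt (sigma M) x ≠ 1) : constt (sigma M) x ∈ sigmaDecomp x := ⟨h, M, hM, rfl⟩

theorem sigma_mmaxJ (M : Subgroup G) (x z : G) :
    z •ᶜ M ∈ sigmaMmax (z * x * z⁻¹) ↔ M ∈ sigmaMmax x := by
  rw [mem_sigmaMmax, mem_sigmaMmax, mmaxJ, MsigmaJ, conj_mem_conj_smul_iff]

theorem nontrivial_sigma_mmaxJ (x z : G) :
    (sigmaMmax (z * x * z⁻¹)).Nontrivial ↔ (sigmaMmax x).Nontrivial := by
  have key : ∀ x z : G, (sigmaMmax x).Nontrivial → (sigmaMmax (z * x * z⁻¹)).Nontrivial := by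
    rintro x z ⟨M, hM, L, hL, hne⟩
    exact ⟨_, (sigma_mmaxJ M x z).2 hM, _, (sigma_mmaxJ L x z).2 hL,
      fun e => hne ((conjsg_inj z).1 e)⟩
  refine ⟨fun h => ?_, key x z⟩
  simpa [mul_assoc] using key _ z⁻¹ h

/-- every prime divisor of `|G|` lies in some `σ(M)` -/
theorem sigma_mmax_exists (hG : Ctx G) {p : ℕ} (hp : p.Prime)
    (hpd : p ∈ dl G) : ∃ M : Subgroup G, Mx M ∧ p ∈ sigma M := by
  haveI := Fact.mk hp
  have hd := (hG.comp.sub p hpd).2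
  obtain ⟨P, hP⟩ := Sylow_exists p (⊤ : Subgroup G)
  have hne : P ≠ ⊥ := Sylow_ne_bot hP (by rwa [Subgroup.card_top])
  obtain ⟨M, hM, hN⟩ := mmax_exists (mFT_norm_pgroup_proper hG (Sylow_pgroup hP) hne)
  exact ⟨M, hM, mem_sigma_of_Sylow hM.1 hp (pHall_subl ((normG P).trans hN) le_top hP) hN⟩

omit [Finite G] in
theorem Msigma_ell1 {M : Subgroup G} (hM : Mx M) {x : G} (hx : x ∈ sigmaCore M)
    (hx1 : x ≠ 1) : Ell1 x := ⟨hx1, M, hM, hx⟩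

theorem sigma_mmax_p_elt {M : Subgroup G} {x : G} (h : M ∈ sigmaMmax x) : PiElt (sigma M) x :=
  mem_p_elt (Msigma_pgroup M) h.2

theorem sigma_mmax_mem {M : Subgroup G} {x : G} (h : M ∈ sigmaMmax x) : x ∈ M :=
  (Msigma_normal M).1 h.2

/-! ### `κ(M)` and the classes of maximal subgroups -/

theorem mem_kappa_Sylow {M : Subgroup G} {p : ℕ} :
    p ∈ kappa M ↔ p.Prime ∧ p ∣ Nat.card M ∧ p ∉ sigma M ∧
      ∀ P, IsSylowOf p P M → IsCyclic P ∧ ∃ x ∈ P, x ≠ 1 ∧ sigmaCore M ⊓ 𝐂₁ x ≠ ⊥ := by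
  refine and_congr_right fun hp => and_congr_right fun _ => and_congr_right fun _ => ?_
  haveI := Fact.mk hp
  constructor
  · intro h P hP
    obtain ⟨S, rfl⟩ := exists_sylow_of hP
    obtain ⟨hc, x, hx, hx1, y, hy, hy1, e⟩ := h S
    exact ⟨(S.1.equivMapOfInjective M.subtype M.subtype_injective).isCyclic.1 hc, x, ⟨x, hx, rfl⟩,
      fun e => hx1 (Subtype.ext e), trivgPn.2 ⟨y, ⟨hy, mem_cent1.2 e.symm⟩, hy1⟩⟩
  · intro h S
    obtain ⟨hc, _, ⟨x, hx, rfl⟩, hx1, hne⟩ := h _ (Sylow_map_subtype S)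
    obtain ⟨y, ⟨hy, hy'⟩, hy1⟩ := trivgPn.1 hne
    exact ⟨(S.1.equivMapOfInjective M.subtype M.subtype_injective).isCyclic.2 hc, x, hx,
      fun e => hx1 (by rw [e, map_one]), y, hy, hy1, (mem_cent1.1 hy').symm⟩

theorem kappaJ (g : G) (M : Subgroup G) : kappa (g •ᶜ M) = kappa M := by
  have key : ∀ (g : G) (M : Subgroup G), kappa M ⊆ kappa (g •ᶜ M) := by
    intro g M p hp
    obtain ⟨h1, h2, h3, h4⟩ := mem_kappa_Sylow.1 hp
    refine mem_kappa_Sylow.2 ⟨h1, by rwa [card_conj_smul], by rwa [sigmaJ], fun P hP => ?_⟩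
    rw [← conj_smul_conj_inv_smul g P] at hP ⊢
    obtain ⟨hc, x, hx, hx1, hne⟩ := h4 _ ((pHallJ2 g).1 hP)
    refine ⟨(cyclicJ g).2 hc, g * x * g⁻¹, conj_mem_conj_smul g hx,
      fun e => hx1 (conjg_eq1.1 e), ?_⟩
    rw [MsigmaJ, cent1J, ← conjIg]
    exact fun e => hne (conj_smul_eq_bot_iff.1 e)
  refine le_antisymm ?_ (key g M)
  have := key g⁻¹ (g •ᶜ M)
  rwa [conj_inv_smul_conj_smul] at this

theorem sigma_kappaJ (g : G) (M : Subgroup G) : sigmaKappa (g •ᶜ M) = sigmaKappa M := by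
  rw [sigmaKappa, sigmaJ, kappaJ, sigmaKappa]

omit [Finite G] in
theorem kappa_prime {M : Subgroup G} {p : ℕ} (h : p ∈ kappa M) : p.Prime := h.1

omit [Finite G] in
theorem kappa_sigma' (M : Subgroup G) : kappa M ⊆ (sigma M)ᶜ := fun _ h => h.2.2.1

theorem rank_kappa {M : Subgroup G} {p : ℕ} (h : p ∈ kappa M) : pRank p M = 1 := by
  obtain ⟨h1, h2, -, h4⟩ := mem_kappa_Sylow.1 h
  haveI := Fact.mk h1
  obtain ⟨P, hP⟩ := Sylow_exists p M
  have h5 := cyclic_p_rank_le1 (p := p) (h4 P hP).1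
  rw [p_rank_Sylow hP] at h5
  exact le_antisymm h5 (p_rank_gt0.2 h2)

theorem kappa_tau13 {M : Subgroup G} {p : ℕ} (h : p ∈ kappa M) : p ∈ tau1 M ∨ p ∈ tau3 M := by
  haveI := Fact.mk h.1
  have hr : PRankLE p 1 M := pRank_le_iff.1 (rank_kappa h).le
  by_cases hd : p ∣ Nat.card ↥⁅M, M⁆
  · exact Or.inr ⟨h.1, h.2.2.1, hd, hr⟩
  · exact Or.inl ⟨h.1, h.2.2.1, h.2.1, hd, hr⟩

theorem kappa_tau2' (M : Subgroup G) : kappa M ⊆ (tau2 M)ᶜ := fun p h h2 => by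
  haveI := Fact.mk h.1
  exact h2.2.2.2 (pRank_le_iff.1 (rank_kappa h).le)

theorem kappa_nonregular {M P : Subgroup G} {p : ℕ} (h : p ∈ kappa M) (hP : P ∈ Elem p 1 M) :
    sigmaCore M ⊓ 𝐂 P ≠ ⊥ := by
  obtain ⟨h1, -, -, h4⟩ := mem_kappa_Sylow.1 h
  haveI := Fact.mk h1
  obtain ⟨S, hS, hPS⟩ := Sylow_superset hP.1 (pnElem_pgroup hP)
  obtain ⟨hc, x, hx, hx1, hne⟩ := h4 S hS
  have e := p1Elem_cyclic_eq_Ohm1 hc (pnElem_of_le hP hPS)
  have h5 : Subgroup.zpowers x ⊓ omegaOne p S ≠ ⊥ :=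
    meet_Ohm1 (Sylow_pgroup hS) (trivgPn.2 ⟨x, ⟨Subgroup.mem_zpowers x, hx⟩, hx1⟩)
  rw [← e, inf_comm] at h5
  have h6 := centS (prime_meetG (p1Elem_prime hP) h5)
  rw [cent_zpowers] at h6
  exact subG1_contra (inf_le_inf_left _ h6) hne

theorem kappa_dl (hG : Ctx G) {M : Subgroup G} {p : ℕ} (h : p ∈ kappa M) : p ∈ dl G := by
  haveI := Fact.mk h.1
  obtain ⟨P, hP⟩ := p1Elem_exists h.2.1
  exact dg_of_inf_cent hG (Msigma_dg M) (kappa_nonregular h hP) p h.1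
    (X12.elem_dvd (X12.elem_self hP))

theorem kappa_dg (hG : Ctx G) {M K : Subgroup G} (h : IsPiSubgroup (kappa M) K) : DG K :=
  fun p hp hd => kappa_dl hG (h p hp hd)

theorem sigmaKappa_dg (hG : Ctx G) {M K : Subgroup G} (h : IsPiSubgroup (sigmaKappa M) K) :
    DG K := fun p hp hd => (h p hp hd).elim sigma_dl (kappa_dl hG)

/-- the Coq definition of `κ(M)` -/
theorem mem_kappa_iff (hG : Ctx G) {M : Subgroup G} {p : ℕ} (hM : Loc M := by loc) :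
    p ∈ kappa M ↔ (p ∈ tau1 M ∨ p ∈ tau3 M) ∧ ∃ P ∈ Elem p 1 M, sigmaCore M ⊓ 𝐂 P ≠ ⊥ := by
  constructor
  · intro h
    haveI := Fact.mk h.1
    obtain ⟨P, hP⟩ := p1Elem_exists h.2.1
    exact ⟨kappa_tau13 h, P, hP, kappa_nonregular h hP⟩
  · rintro ⟨h, P, hP, hne⟩
    have h1 : p.Prime ∧ p ∉ sigma M ∧ PRankLE p 1 M :=
      h.elim (fun h => ⟨h.1, h.2.1, h.2.2.2.2⟩) fun h => ⟨h.1, h.2.1, h.2.2.2⟩
    haveI := Fact.mk h1.1
    refine mem_kappa_Sylow.2 ⟨h1.1, pnElem_prime_dvd hP one_pos, h1.2.1, fun S hS =>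
      ⟨(odd_Sylow_cyclic_iff hS (mFT_odd hG M)).2 (pRank_le_iff.2 h1.2.2), ?_⟩⟩
    obtain ⟨g, hg, hgP⟩ := Sylow_Jsub hS hP.1 (pnElem_pgroup hP)
    obtain ⟨x, hx, hx1⟩ := trivgPn.1 (nt_pnElem hP one_pos)
    refine ⟨g * x * g⁻¹, hgP (conj_mem_conj_smul g hx), fun e => hx1 (conjg_eq1.1 e), ?_⟩
    rw [← normP.1 ((Msigma_normal M).2 hg), cent1J, ← conjIg]
    exact fun e => subG1_contra (inf_le_inf_left _ (cent_le_cent1 hx)) hne
      (conj_smul_eq_bot_iff.1 e)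

theorem PtypeJ (g : G) (M : Subgroup G) : MaxP (g •ᶜ M) ↔ MaxP M := by
  rw [MaxP, mmaxJ, kappaJ, MaxP]
theorem P1typeJ (g : G) (M : Subgroup G) : MaxP1 (g •ᶜ M) ↔ MaxP1 M := by
  rw [MaxP1, PtypeJ, sigma_kappaJ, pgroupJ, MaxP1]

theorem KappaCompl.conj {M U K : Subgroup G} (h : KappaCompl M U K) (g : G) :
    KappaCompl (g •ᶜ M) (g •ᶜ U) (g •ᶜ K) where
  hallK := by rw [kappaJ]; exact (pHallJ2 g).2 h.hallK
  hallU := by rw [sigma_kappaJ]; exact (pHallJ2 g).2 h.hallU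
  norm := by rw [normJ]; exact (conjSg g).2 h.norm

theorem ex_kappa_Hall (hG : Ctx G) {M : Subgroup G} (hM : Mx M) :
    ∃ K : Subgroup G, IsPiHallOf (kappa M) K M := Hall_exists _ (mmax_sol hG hM)

theorem trivg_kappa {M K : Subgroup G} (hM : Mx M) (hK : IsPiHallOf (kappa M) K M) :
    K = ⊥ ↔ MaxF M := by
  rw [Hall_eq_bot_iff hK]
  refine ⟨fun h => ⟨hM, Set.eq_empty_of_forall_notMem fun p hp => h p hp.1 hp.2.1 hp⟩,
    fun h p _ _ => ?_⟩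
  rw [h.2]
  exact Set.notMem_empty p

theorem nontriv_kappa {M K : Subgroup G} (hM : Mx M) (hK : IsPiHallOf (kappa M) K M) :
    K ≠ ⊥ ↔ MaxP M := by
  rw [Ne, trivg_kappa hM hK, maxF_iff_not_maxP hM, not_not]

theorem kappa_Hall_sigma' {M K : Subgroup G} (hK : IsPiHallOf (kappa M) K M) :
    IsPiSubgroup (sigma M)ᶜ K := sub_pgroup (kappa_sigma' M) hK.2.1

omit [Finite G] in
theorem KappaCompl.kappa'U {M U K : Subgroup G} (h : KappaCompl M U K) :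
    IsPiSubgroup (kappa M)ᶜ U := fun r hr hd hs => h.hallU.2.1 r hr hd (Or.inr hs)

omit [Finite G] in
theorem signalizer_eq_bot {x : G} (h : ¬ (sigmaMmax x).Nontrivial) : signalizer x = ⊥ := by
  rw [signalizer, signalizerBase, dif_neg fun h' => h h'.1, sigmaCore_def, pcore_bot, bot_inf_eq]

theorem cent1_sub_uniq_sigma_mmax (hG : Ctx G) {x : G} {M : Subgroup G}
    (h : sigmaMmax x = {M}) : 𝐂₁ x ≤ M := by
  have hM : M ∈ sigmaMmax x := by rw [h]; rfl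
  intro c hc
  have h1 := (sigma_mmaxJ M x c).2 hM
  rw [mem_cent1.1 hc, mul_inv_cancel_right, h] at h1
  exact (mmax_conj_eq_iff hG hM.1).1 h1

end Cfsg.Lib.FT.PG
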