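import Cfsg.Agent.PG.BG14.Basic

/-!
B & G, Proposition 14.2 and Corollary 14.3.
-/

set_option autoImplicit false
set_option linter.unusedSectionVars false

open Pointwise Cfsg Cfsg.Lib.Solv

namespace Cfsg.Lib.FT.PG

variable {G : Type*} [Group G] [Dl G] [Finite G]

/-- if the primes of a `σ(M)'`-subgroup `F` lie in `τ₁ ∪ τ₃` and `F` acts in a prime manner on `M_σ`
with nontrivial fixed points, then `F` is a `κ(M)`-group -/
theorem kappa_group_of_semiprime (hG : Ctx G) {M F : Subgroup G} (hFM : F ≤ M)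
    (h13 : ∀ q : ℕ, q.Prime → q ∣ Nat.card F → q ∈ tau1 M ∨ q ∈ tau3 M)
    (hC : sigmaCore M ⊓ 𝐂 F ≠ ⊥) (hM : Loc M := by loc) : IsPiSubgroup (kappa M) F :=
    fun q hq hd => by
  haveI : Fact q.Prime := ⟨hq⟩
  obtain ⟨Q, hQ⟩ := p1Elem_exists hd
  exact (mem_kappa_iff hG).2 ⟨h13 q hq hd, Q, pnElemS hFM hQ,
    subG1_contra (inf_le_inf_left _ (centS hQ.1)) hC⟩

/-- the core of 14.2(a) -/
theorem Ptype_compl_structure (hG : Ctx G) {M K : Subgroup G} (hM : MaxP M)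
    (hK : IsPiHallOf (kappa M) K M) :
    ∃ E E₁ U : Subgroup G, IsPiHallOf (sigma M)ᶜ E M ∧ IsPiHallOf (tau1 M) E₁ E ∧ E₁ ≠ ⊥ ∧
      E₁ ≤ K ∧ SDProd U K E ∧ Semiprime (sigmaCore M) K ∧ Semiregular U K ∧
      ∀ X : Subgroup G, X ≤ K → (Nat.card X).Prime → K ≤ 𝐍 X := by
  have hmax := hM.max
  obtain ⟨E, hE, hKE⟩ := ex_sigma_compl hG hmax hK.1 (kappa_Hall_sigma' hK)
  have hK1 : K ≠ ⊥ := (nontriv_kappa hmax hK).2 hM
  by_cases h3 : ∃ p ∈ kappa M, p ∈ tau3 M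
  · obtain ⟨p, hpκ, hp3⟩ := h3
    haveI : Fact p.Prime := ⟨hpκ.1⟩
    obtain ⟨⟨E₁, h1⟩, E₃, h3⟩ := ex_tau13_compl hG hmax hE
    obtain ⟨E₂, hc⟩ := ex_tau2_compl hG hmax hE h1 h3
    obtain ⟨P, hP⟩ := p1Elem_exists (mem_pi_of_Hall_dvd h3 hpκ.1 hp3
      ((partition_pi_sigma_compl hG hmax hE p).2 (Or.inr (Or.inr hp3))).2)
    have hCP := kappa_nonregular hpκ (pnElemS (h3.1.trans hE.1) hP)
    have hP1 : P ≠ ⊥ := nt_pnElem hP one_pos
    obtain ⟨hE1, hs, hpr, hn⟩ := tau13_nonregular hG hmax hc fun h => hCP (h.cent hP.1 hP1)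
    have hκE : IsPiSubgroup (kappa M) E := by
      refine kappa_group_of_semiprime hG hE.1 (fun q hq hd => ?_) ?_
      · rcases (hs.prime_dvd_card_iff hq).1 hd with h | h
        · exact Or.inr (h3.2.1 q hq h)
        · exact Or.inl (h1.2.1 q hq h)
      · rwa [← hpr.cent (hP.1.trans h3.1) hP1]
    have hEK : E = K := sub_pHall hK hκE hKE hE.1
    subst hEK
    exact ⟨E, E₁, ⊥, hE, h1, hE1, h1.1, SDProd.bot_left E, hpr, Semiregular.bot_left E,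
      fun X hX hp => (hn _ X hp (p1Elem_of_prime hX hp)).2⟩
  · have hκ1 : kappa M ⊆ tau1 M := fun p hp => (kappa_tau13 hp).resolve_right fun h => h3 ⟨p, hp, h⟩
    obtain ⟨E₁, E₂, E₃, hc, hKE₁⟩ := ex_sigmaCompl_of_tau1 hG hmax hE hKE (sub_pgroup hκ1 hK.2.1)
    have hpr := tau1_primact_Msigma hG hmax hE hc.hall1
    have hreg : ∀ (p : ℕ) (P : Subgroup G), p.Prime → P ∈ Elem p 1 K →
        p ∈ kappa M ∧ sigmaCore M ⊓ 𝐂 P ≠ ⊥ := fun p P hp hP => by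
      haveI : Fact p.Prime := ⟨hp⟩
      have h := pnElem_mem_pi hP one_pos hK.2.1
      exact ⟨h, kappa_nonregular h (pnElemS hK.1 hP)⟩
    have hE₁K : E₁ = K := by
      obtain ⟨p, hp, P, hP⟩ := exists_p1Elem_of_ne_bot hK1
      haveI : Fact p.Prime := ⟨hp⟩
      refine sub_pHall hK (kappa_group_of_semiprime hG (hc.hall1.1.trans hE.1)
        (fun q hq hd => Or.inl (hc.hall1.2.1 q hq hd)) ?_) hKE₁ (hc.hall1.1.trans hE.1)
      rw [← hpr.cent (hP.1.trans hKE₁) (nt_pnElem hP one_pos)]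
      exact (hreg p P hp hP).2
    subst hE₁K
    obtain ⟨⟨-, hn3⟩, -, ⟨hcyc, -⟩, ⟨-, -, hs32, hs⟩, -⟩ := sigma_compl_context hG hmax hc
    refine ⟨E, E₁, E₃ ⊔ E₂, hE, hc.hall1, hK1, le_rfl, hs, hpr, fun x hx hx1 => ?_,
      fun X hX _ => sub_abelian_norm (cyclic_abelian hcyc) hX⟩
    by_contra hne
    obtain ⟨q, hq, Q, hQ⟩ := exists_p1Elem_of_ne_bot hne
    haveI : Fact q.Prime := ⟨hq⟩
    obtain ⟨p, hp, P, hP⟩ := exists_p1Elem_of_ne_bot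
      (H := Subgroup.zpowers x) fun h => hx1 (Subgroup.zpowers_eq_bot.1 h)
    haveI : Fact p.Prime := ⟨hp⟩
    have hPK : P ∈ Elem p 1 E₁ := pnElemS (Subgroup.zpowers_le.2 hx) hP
    have hQP : Q ≤ 𝐂 P := hQ.1.trans (inf_le_right.trans (cent_zpowers x ▸ centS hP.1))
    have hQE : Q ∈ Elem q 1 E := pnElemS (inf_le_left.trans hs.le_left) hQ
    have hQ1 : Q ≠ ⊥ := nt_pnElem hQ one_pos
    have hP1 : P ≠ ⊥ := nt_pnElem hP one_pos
    obtain ⟨hpκ, hCP⟩ := hreg p P hp hPK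
    rcases (hs32.prime_dvd_card_iff hq).1
      ((pnElem_prime_dvd hQ one_pos).trans (cardSg inf_le_left)) with h | h
    · have hq3 := hc.hall3.2.1 q hq h
      have hQ3 : Q ≤ E₃ := (sub_normal_Hall hc.hall3 hn3.2 hQE.1).2 (pi_pgroup (pnElem_pgroup hQ) hq3)
      have hpr' := tau13_primact_Msigma hG hmax hE hc.hall1 hc.hall3 fun hr =>
        hQ1 (le_bot_iff.1 (hr.cent hPK.1 hP1 ▸ le_inf hQ3 hQP))
      refine h3 ⟨q, (mem_kappa_iff hG).2 ⟨Or.inr hq3, Q, pnElemS hE.1 hQE, ?_⟩, hq3⟩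
      rwa [hpr'.cent (hQ3.trans le_sup_left) hQ1, ← hpr'.cent (hPK.1.trans le_sup_right) hP1]
    · have hq2 := hc.hall2.2.1 q hq h
      obtain ⟨A, hA, -⟩ := ex_tau2Elem hG hmax hE hq2
      have hQA : Q ∈ Elem q 1 A := (tau2_compl_context hG hmax hE hq2 hA).1.2 ▸ hQE
      exact hCP (tau12_regular hG hmax hE (hκ1 hpκ) (pnElemS hc.hall1.1 hPK) hq2 hA
        (subG1_contra (le_inf hQA.1 hQP) hQ1))

/-- a complement `U` of a Hall `κ`-subgroup in a Hall `σ'`-subgroup -/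
theorem kappaCompl_of_sdprod {M E U K : Subgroup G} (hK : IsPiHallOf (kappa M) K M)
    (hE : IsPiHallOf (sigma M)ᶜ E M) (hs : SDProd U K E) : KappaCompl M U K := by
  refine ⟨hK, ?_, hs.norm⟩
  have hU : IsPiHallOf (kappa M)ᶜ U E := hs.compl_p'Hall.2 (pHall_subl hs.le_right hE.1 hK)
  refine subHall_Hall hE (fun p hp hs => hp (Or.inl hs)) (eq_in_pHall (fun r hr hd => ?_) hU)
  have := hE.2.1 r hr hd
  simp only [Set.mem_compl_iff, mem_sigmaKappa, not_or] at this ⊢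
  tauto

/-- B & G, Proposition 14.2, with `K* = C_{M_σ}(K)`. -/
theorem Ptype_structure (hG : Ctx G) {M K : Subgroup G} (hM : MaxP M)
    (hK : IsPiHallOf (kappa M) K M) :
    (∃ U : Subgroup G, KappaCompl M U K ∧ SDProd U K (U ⊔ K) ∧ SDProd (sigmaCore M) (U ⊔ K) M ∧
      Semiprime (sigmaCore M) K ∧ Semiregular U K ∧ IsMulCommutative U) ∧
    (DProd K (sigmaCore M ⊓ 𝐂 K) (M ⊓ 𝐍 K) ∧
      ∀ X : Subgroup G, X ≤ K → (Nat.card X).Prime →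
        M ⊓ 𝐍 X = M ⊓ 𝐍 K ∧
          ∀ Mstar : Subgroup G, Mx Mstar → 𝐍 X ≤ Mstar → X ≤ sigmaCore Mstar) ∧
    (sigmaCore M ⊓ 𝐂 K ≠ ⊥ ∧
      ∀ X : Subgroup G, X ≤ sigmaCore M ⊓ 𝐂 K → (Nat.card X).Prime → UniqMax (𝐂 X) M) ∧
    ((∀ g : G, g ∉ M → (sigmaCore M ⊓ 𝐂 K) ⊓ g •ᶜ M = ⊥) ∧
      ∀ g ∈ M, g ∉ 𝐍 K → K ⊓ g •ᶜ K = ⊥) ∧
    (∀ p : ℕ, p.Prime → p ∣ Nat.card (sigmaCore M ⊓ 𝐂 K : Subgroup G) → ∀ S : Subgroup G,
      IsSylowOf p S (sigmaCore M) → UniqMax S M ∧ ¬ S ≤ sigmaCore M ⊓ 𝐂 K) ∧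
    (∀ Y : Subgroup G, IsPiSubgroup (sigma M) Y → Y ⊓ (sigmaCore M ⊓ 𝐂 K) ≠ ⊥ →
      Y ≤ sigmaCore M) ∧
    (MaxP2 M → sigma M = beta M ∧ (Nat.card K).Prime ∧ Group.IsNilpotent (sigmaCore M) ∧
      NormedTI (sharp (sigmaCore M)) ⊤ M) := by
  have hmax := hM.max
  obtain ⟨E, E₁, U, hE, hE₁, hE₁1, hE₁K, hs, hpr, hreg, hnX⟩ := Ptype_compl_structure hG hM hK
  have hK1 : K ≠ ⊥ := (nontriv_kappa hmax hK).2 hM
  have hMs := sdprod_sigma hG hmax hE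
  have hUK := kappaCompl_of_sdprod hK hE hs
  have hUE := semiregular_le_der hs hK1 hreg
  have hnMs := Msigma_normal M
  have hTI : K ⊓ sigmaCore M = ⊥ := le_bot_iff.1 (hMs.inf' ▸ inf_le_inf_right _ hs.le_right)
  have hNK : M ⊓ 𝐍 K = K ⊔ sigmaCore M ⊓ 𝐂 K :=
    Ptype_norm_aux hMs hs hpr hreg le_rfl hK1 (normG K)
  have hZ : DProd K (sigmaCore M ⊓ 𝐂 K) (M ⊓ 𝐍 K) :=
    ⟨hNK.symm, inf_le_right, le_bot_iff.1 (hTI ▸ inf_le_inf_left _ inf_le_left)⟩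
  have hNX : ∀ X : Subgroup G, X ≤ K → (Nat.card X).Prime → M ⊓ 𝐍 X = M ⊓ 𝐍 K := fun X hX hp =>
    (Ptype_norm_aux hMs hs hpr hreg hX (prime_ne_bot hp) (hnX X hX hp)).trans hNK.symm
  have hb2 : ∀ X : Subgroup G, X ≤ K → (Nat.card X).Prime →
      ∀ Mstar : Subgroup G, Mx Mstar → 𝐍 X ≤ Mstar → X ≤ sigmaCore Mstar := by
    intro X hX hp L hL hN
    have hκ : Nat.card X ∈ kappa M := hK.2.1 _ hp (cardSg hX)
    have hXM := p1Elem_of_prime (hX.trans hK.1) hp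
    exact sub_Msigma hG hL ((normG X).trans hN) ((prime_pgroup rfl hp).2
      (tau13_nonregular_sigma hG hmax hXM (kappa_nonregular hκ hXM) (kappa_tau13 hκ) hL hN))
  have hu : ∀ (q : ℕ) (X : Subgroup G), q.Prime → X ∈ Elem q 1 (sigmaCore M ⊓ 𝐂 K) →
      UniqMax (𝐂 X) M ∧ ∀ S : Subgroup G, IsSylowOf q S (sigmaCore M) → UniqMax S M :=
    fun q X hq hX => cent_cent_Msigma_tau1_uniq hG hmax hE hE₁ le_rfl hE₁1 hq
      (pnElemS (inf_le_inf_left _ (centS hE₁K)) hX)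
  have htr : ∀ (g : G) (X : Subgroup G), X ≤ sigmaCore M ⊓ 𝐂 K → (Nat.card X).Prime →
      g •ᶜ X ≤ M → g ∈ M := fun g X hX hp hg =>
    sigma_cent_sub_trans hG hmax (Msigma_pgroup M _ hp (cardSg (hX.trans inf_le_left)))
      (isPGroup_of_card_prime rfl) (hX.trans (inf_le_left.trans hnMs.1))
      (hu _ X hp (p1Elem_of_prime hX hp)).1.le hg
  refine ⟨⟨U, hUK, hs.sup ▸ hs, hs.sup ▸ hMs, hpr, hreg,
    abelianS hUE (der_mmax_compl_abelian hG hmax hE)⟩, ⟨hZ, fun X hX hp => ⟨hNX X hX hp, hb2 X hX hp⟩⟩,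
    ⟨?_, fun X hX hp => (hu _ X hp (p1Elem_of_prime hX hp)).1⟩, ⟨fun g hg => ?_, fun g hg hgK => ?_⟩,
    fun p hp hd S hS => ?_, fun Y hY hne => ?_, fun h2 => ?_⟩
  · obtain ⟨X, hX, hp⟩ := exists_prime_subgroup_of_ne_bot hK1
    rw [← hpr.cent hX (prime_ne_bot hp)]
    exact kappa_nonregular (hK.2.1 _ hp (cardSg hX)) (p1Elem_of_prime (hX.trans hK.1) hp)
  · by_contra hne
    obtain ⟨X, hX, hp⟩ := exists_prime_subgroup_of_ne_bot hne
    refine hg (inv_mem_iff.1 (htr g⁻¹ X (hX.trans inf_le_left) hp ?_))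
    rw [conj_smul_le_iff_le_conj_inv_smul, inv_inv]
    exact hX.trans inf_le_right
  · by_contra hne
    obtain ⟨X, hX, hp⟩ := exists_prime_subgroup_of_ne_bot hne
    have h1 : g⁻¹ •ᶜ X ≤ K := by
      rw [conj_smul_le_iff_le_conj_inv_smul, inv_inv]
      exact hX.trans inf_le_right
    have h2 := hNX _ h1 (by rwa [card_conj_smul])
    rw [normJ, ← conjGid (inv_mem hg), ← conjIg, hNX X (hX.trans inf_le_left) hp,
      conjGid (inv_mem hg)] at h2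
    have h3 : piCoreOf (kappa M) (M ⊓ 𝐍 K) = K :=
      normal_Hall_pcore (pHall_subl hZ.le_left inf_le_left hK) inf_le_right
    exact hgK (inv_mem_iff.1 (h3 ▸ norm_pcore (kappa M) _ (normP.2 h2)))
  · haveI : Fact p.Prime := ⟨hp⟩
    obtain ⟨X, hX⟩ := p1Elem_exists hd
    have hSM := (hu p X hp hX).2 S hS
    refine ⟨hSM, fun hSK => ?_⟩
    obtain ⟨Y, hY, hq⟩ := exists_prime_subgroup_of_ne_bot hK1
    obtain ⟨L, hL, hN⟩ := mmax_exists_norm hG (prime_ne_bot hq)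
      ((kappa_dg hG hK.2.1).mono hY)
    have hLM : L = M :=
      hSM.eq hL (hSK.trans (inf_le_right.trans ((cents_norm (centS hY)).trans hN)))
    have h1 := hb2 Y hY hq L hL hN
    rw [hLM] at h1
    exact prime_ne_bot hq (le_bot_iff.1 (hTI ▸ le_inf hY h1))
  · obtain ⟨X, hX, hp⟩ := exists_prime_subgroup_of_ne_bot hne
    obtain ⟨g, hg⟩ := (sigma_Jsub hG hmax hY (subG1_contra inf_le_left hne)).1
    have hgM := htr g X (hX.trans inf_le_right) hp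
      (((conjSg g).2 (hX.trans inf_le_left)).trans (hg.trans hnMs.1))
    rw [conj_smul_le_iff_le_conj_inv_smul, normP.1 (hnMs.2 (inv_mem hgM))] at hg
    exact hg
  · have hU1 : U ≠ ⊥ := fun h => ((trivg_kappa_compl hG hmax hUK).1 h).not_maxP2 h2
    have hCU : sigmaCore M ⊓ 𝐂 U = ⊥ := by
      obtain ⟨p, hp, hd⟩ := exists_prime_dvd_card hU1
      haveI : Fact p.Prime := ⟨hp⟩
      obtain ⟨S, hS⟩ := Sylow_exists p U
      have hp' := hUK.hallU.2.1 p hp hd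
      have h := (sigma'_kappa'_facts hG hmax ⟨hp, hd.trans (cardSg hUK.hallU.1)⟩
        (fun h => hp' (Or.inl h)) (fun h => hp' (Or.inr h)) (subHall_Sylow hUK.hallU hp' hS)).2.1
      exact le_bot_iff.1 (h ▸ inf_le_inf_left _ (centS ((Ohm_sub p S).trans hS.1)))
    have hβ : IsPiSubgroup (beta M) (sigmaCore M) := by
      obtain ⟨H, hH, hc⟩ := der_compl_cent_beta' hG hmax hE
      have hH1 : H = ⊥ := le_bot_iff.1 (hCU ▸ le_inf hH.1 (centsC.1 (hUE.trans hc)))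
      rw [hH1] at hH
      simpa using p'group_of_Hall_bot hH
    have hco := coprime_sigma_compl hG hmax hE
    refine ⟨Set.Subset.antisymm (fun p hp => ?_) (beta_sub_sigma hG hmax),
      (Frobenius_primact hs.norm hK1 hreg (sub_mmax_sol hG hmax hnMs.1) (Msigma_neq1 hG hmax)
        (hs.le_left.trans hMs.norm) (hs.le_right.trans hMs.norm) (coprimegS hs.le_left hco)
        (coprimegS hs.le_right hco) hpr hCU).1, notP1type_Msigma_nil hG (Or.inr h2),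
      NormedTI.of_inf_conj (Msigma_neq1 hG hmax) le_top hnMs.2 fun g _ hg => ?_⟩
    · rw [← pi_Msigma hG hmax] at hp
      exact hβ p hp.1 hp.2
    · refine le_bot_iff.1 ((inf_le_inf_left _ ((conjSg g).2 hnMs.1)).trans (le_of_eq ?_))
      exact pgroup_eq_bot (pgroupS inf_le_left hβ) ((sigma_compl_embedding hG hmax hE).2.2 g hg).2.1

/-- B & G, 14.2(a) for given `U`, `K`. -/
theorem kappa_compl_context (hG : Ctx G) {M U K : Subgroup G} (hM : Mx M)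
    (h : KappaCompl M U K) :
    IsPiHallOf (sigma M)ᶜ (U ⊔ K) M ∧ SDProd U K (U ⊔ K) ∧ SDProd (sigmaCore M) (U ⊔ K) M ∧
      Semiprime (sigmaCore M) K ∧ Semiregular U K ∧ (K ≠ ⊥ → IsMulCommutative U) := by
  by_cases hK : K = ⊥
  · have hF := (trivg_kappa hM h.hallK).1 hK
    have hU : IsPiHallOf (sigma M)ᶜ U M := by
      have := h.hallU
      rwa [sigmaKappa, hF.2, Set.union_empty] at this
    subst hK
    rw [sup_bot_eq]
    exact ⟨hU, SDProd.bot_right U, sdprod_sigma hG hM hU, (Semiregular.bot_right _).semiprime,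
      Semiregular.bot_right _, fun h => absurd rfl h⟩
  · obtain ⟨⟨V, hV, hs, hMs, hpr, hreg, hab⟩, -⟩ :=
      Ptype_structure hG ((nontriv_kappa hM h.hallK).1 hK) h.hallK
    obtain ⟨-, h2⟩ := hs.assoc' hMs
    have hH : IsPiHallOf (kappa M)ᶜ (sigmaCore M ⊔ V) M := h2.compl_p'Hall.2 h.hallK
    have hUH : U ≤ sigmaCore M ⊔ V := (sub_normal_Hall hH h2.norm_left h.hallU.1).2 h.kappa'U
    obtain ⟨x, ⟨hx, hxK⟩, rfl⟩ := coprime_Hall_trans h2.norm (p'nat_coprime hH.2.1 h.hallK.2.1)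
      (sub_mmax_sol hG hM hH.1) (pHall_subl hUH hH.1 h.hallU) h.norm
      (pHall_subl le_sup_right hH.1 hV.hallU) hV.norm
    have hxM := hH.1 hx
    have e1 : x •ᶜ K = K := normP.1 (cent_sub K hxK)
    have e2 : x •ᶜ sigmaCore M = sigmaCore M := normP.1 ((Msigma_normal M).2 hxM)
    have hs' := hs.conj x
    have hMs' := hMs.conj_right hxM
    have hreg' := hreg.conj x
    rw [conjYg, e1] at hs' hMs'
    rw [e1] at hreg'
    exact ⟨sigma_compl_of_sdprod hG hM hMs', hs', hMs', hpr, hreg', fun _ => (abelianJ x).2 hab⟩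

theorem ex_kappa_compl (hG : Ctx G) {M K : Subgroup G} (hM : Mx M)
    (hK : IsPiHallOf (kappa M) K M) : ∃ U : Subgroup G, KappaCompl M U K := by
  by_cases hK1 : K = ⊥
  · obtain ⟨U, hU⟩ := Hall_exists (sigmaKappa M)ᶜ (mmax_sol hG hM)
    exact ⟨U, hK, hU, hK1 ▸ bot_le⟩
  · obtain ⟨⟨U, hU, -⟩, -⟩ := Ptype_structure hG ((nontriv_kappa hM hK).1 hK1) hK
    exact ⟨U, hU⟩

/-- B & G, Corollary 14.3. -/
theorem pi_of_cent_sigma (hG : Ctx G) {M : Subgroup G} (hM : Mx M)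
    {x x' : G} (hx : x ∈ sigmaCore M) (hx1 : x ≠ 1) (hx' : x' ∈ M ⊓ 𝐂₁ x) (hx'1 : x' ≠ 1)
    (hσ : PiElt (sigma M)ᶜ x') :
    (PiElt (kappa M) x' ∧ 𝐂₁ x ≤ M) ∨
      (PiElt (tau2 M) x' ∧ Ell1 x' ∧ UniqMax (𝐂₁ x') M) := by
  by_cases h2 : PiElt (tau2 M) x'
  · refine Or.inr ⟨h2, ?_, cent1_nreg_sigma_uniq hG hM hx'.1 hx'1 h2
      (trivgPn.2 ⟨x, ⟨hx, cent1C.1 hx'.2⟩, hx1⟩)⟩
    obtain ⟨p, hp, hd, -⟩ := exists_constt_ne_one hx'1
    haveI : Fact p.Prime := ⟨hp⟩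
    have hp2 := h2 p hp hd
    obtain ⟨E, hE, -⟩ := ex_sigma_compl hG hM bot_le pgroup1
    obtain ⟨A, hA, hAM⟩ := ex_tau2Elem hG hM hE hp2
    obtain ⟨L, hL, hN⟩ := mmax_exists_norm hG (nt_pnElem hA two_pos) ((tau2_dg hG hM hp2).mono hAM.1)
    exact (sigma_elt_ell1 hG hL (sub_p_elt
      (fun r hr => ((primes_norm_tau2Elem hG hM hE hp2 hA hL hN).1 hr).1) h2) hx'1).1
  · left
    obtain ⟨p, hp, hd, hp2⟩ : ∃ p : ℕ, p.Prime ∧ p ∣ orderOf x' ∧ p ∉ tau2 M := by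
      by_contra hc
      push Not at hc
      exact h2 hc
    haveI : Fact p.Prime := ⟨hp⟩
    obtain ⟨P, hP⟩ := p1Elem_exists (p := p) (H := Subgroup.zpowers x') (by rwa [Nat.card_zpowers])
    have hPM : P ∈ Elem p 1 M := pnElemS (Subgroup.zpowers_le.2 hx'.1) hP
    have hxP : x ∈ sigmaCore M ⊓ 𝐂 P := ⟨hx, centS hP.1 (cent_zpowers x' ▸ cent1C.1 hx'.2)⟩
    have hκ : p ∈ kappa M := by
      refine (mem_kappa_iff hG).2 ⟨?_, P, hPM, trivgPn.2 ⟨x, hxP, hx1⟩⟩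
      rcases (partition_pi_mmax hG hM p).1 ⟨hp, hd.trans (order_dvdG hx'.1)⟩ with h | h | h | h
      · exact Or.inl h
      · exact absurd h hp2
      · exact Or.inr h
      · exact absurd h (hσ p hp hd)
    obtain ⟨K, hK, hPK⟩ := Hall_superset (mmax_sol hG hM) hPM.1 (pi_pgroup (pnElem_pgroup hP) hκ)
    obtain ⟨⟨U, -, -, -, hpr, -⟩, ⟨hZ, hb⟩, ⟨-, hc⟩, -⟩ := Ptype_structure hG ⟨hM, p, hκ⟩ hK
    have hxZ : x' ∈ M ⊓ 𝐍 K := by
      rw [← (hb P hPK (p1Elem_prime hP)).1]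
      exact ⟨hx'.1, sub_abelian_norm (abelian_zpowers x') hP.1 (Subgroup.mem_zpowers x')⟩
    refine ⟨mem_p_elt hK.2.1 (hZ.sdprod.mem_left_of_coprime hxZ ?_), ?_⟩
    · exact (IsPiNum.coprime (pgroupS inf_le_left (Msigma_pgroup M)) hσ).symm
    · obtain ⟨X, hX, hq⟩ := exists_prime_subgroup_of_ne_bot
        (H := Subgroup.zpowers x) fun h => hx1 (Subgroup.zpowers_eq_bot.1 h)
      rw [hpr.cent hPK (nt_pnElem hP one_pos)] at hxP
      exact (cent_zpowers x ▸ centS hX).trans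
        (hc X (hX.trans (Subgroup.zpowers_le.2 hxP)) hq).le

end Cfsg.Lib.FT.PG
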