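import Cfsg.Agent.PG.BG14.T2

/-!
B & G, Theorem 14.4 and its immediate consequences.
-/

set_option autoImplicit false
set_option linter.unusedSectionVars false

open Pointwise Cfsg Cfsg.Lib.Solv

namespace Cfsg.Lib.FT.PG

variable {G : Type*} [Group G] [Dl G] [Finite G]

omit [Finite G] in
theorem sigma_mmax_eq_singleton {x : G} {M : Subgroup G} (hM : M ∈ sigmaMmax x)
    (h : ¬ (sigmaMmax x).Nontrivial) : sigmaMmax x = {M} :=
  (Set.not_nontrivial_iff.1 h).eq_singleton_of_mem hM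

omit [Finite G] in
theorem signalizerBase_eq_of_uniq {x : G} {N : Subgroup G} (hn : (sigmaMmax x).Nontrivial)
    (h : UniqMax (𝐂₁ x) N) : signalizerBase x = N := by
  have h' : (sigmaMmax x).Nontrivial ∧ ∃ N : Subgroup G, Mx N ∧ 𝐂₁ x ≤ N :=
    ⟨hn, N, h.mmax, h.le⟩
  rw [signalizerBase, dif_pos h']
  exact h.eq h'.2.choose_spec.1 h'.2.choose_spec.2

theorem sigma_mmax_conj_cent1 {x r : G} {M : Subgroup G} (hM : M ∈ sigmaMmax x) (hr : r ∈ 𝐂₁ x) :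
    r •ᶜ M ∈ sigmaMmax x := by
  have h := (sigma_mmaxJ M x r).2 hM
  rwa [mem_cent1.1 hr, mul_inv_cancel_right] at h

/-- the heart of 14.4 -/
theorem FT_signalizer_aux (hG : Ctx G) {x : G} (hx1 : x ≠ 1)
    (hn : (sigmaMmax x).Nontrivial) :
    ∃ N : Subgroup G, UniqMax (𝐂₁ x) N ∧ sigmaCore N ⊓ 𝐂₁ x ≠ ⊥ ∧ PiElt (tau2 N) x ∧
      (∀ M ∈ sigmaMmax x, ∀ L ∈ sigmaMmax x, ∃ r ∈ sigmaCore N ⊓ 𝐂₁ x, L = r •ᶜ M) ∧
      ∀ M ∈ sigmaMmax x, tau2 N ⊆ sigma M ∧ piOf (Nat.card M) ∩ sigma N ⊆ beta N ∧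
        IsPiHallOf (sigma N)ᶜ (M ⊓ N) N := by
  obtain ⟨q, hq, X, hX⟩ := exists_p1Elem_of_ne_bot
    (H := Subgroup.zpowers x) fun h => hx1 (Subgroup.zpowers_eq_bot.1 h)
  haveI : Fact q.Prime := ⟨hq⟩
  have hX1 : X ≠ ⊥ := nt_pnElem hX one_pos
  have hXq := pnElem_pgroup hX
  have hxd : PiElt (dl G) x := delt_of_sigma (sigma_mmax_p_elt hn.nonempty.some_mem)
  obtain ⟨N, hN, hNX⟩ := mmax_exists_norm hG hX1 ((dg_zpowers hxd).mono hX.1)
  have hCX : 𝐂 X ≤ N := (cent_sub X).trans hNX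
  have hCx : 𝐂₁ x ≤ N := (cent_zpowers x ▸ centS hX.1).trans hCX
  have hxN : x ∈ N := hCx (cent1id x)
  have hXM : ∀ M ∈ sigmaMmax x, X ≤ M := fun M hM =>
    hX.1.trans (Subgroup.zpowers_le.2 (sigma_mmax_mem hM))
  have hqM : ∀ M ∈ sigmaMmax x, q ∈ sigma M := fun M hM =>
    pnElem_mem_pi hX one_pos (pgroup_zpowers.2 (sigma_mmax_p_elt hM))
  have htr : ∀ M ∈ sigmaMmax x, ∀ L ∈ sigmaMmax x, ∃ c ∈ 𝐂 X, L = c •ᶜ M := by
    intro M hM L hL
    obtain ⟨g, -, rfl⟩ := sigma_mmax_conj hG hx1 hM hL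
    have h := (sigma_group_trans hG hM.1 (hqM M hM) hXq).2.1 1 g
      (by rw [conj_one_smul]; exact hXM M hM) (hXM _ hL)
    rwa [conj_one_smul] at h
  have hne : ∀ M ∈ sigmaMmax x, N ≠ M := by
    rintro M hM rfl
    obtain ⟨L, hL, hLN⟩ := hn.exists_ne N
    obtain ⟨c, hc, rfl⟩ := htr N hM L hL
    exact hLN (conjGid (hCX hc))
  have hemb : ∀ M ∈ sigmaMmax x, PiElt (sigma N)ᶜ x ∧ q ∈ tau2 N ∧
      piOf (Nat.card M) ∩ sigma N ⊆ beta N ∧ IsPiHallOf (sigma N)ᶜ (M ⊓ N) N := fun M hM => by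
    obtain ⟨h1, -, -, h2⟩ :=
      sigma_subgroup_embedding hG hM.1 (hqM M hM) (hXM M hM) hXq hX1 hN hNX (hne M hM)
    have hd := Set.disjoint_left.1 (sigma_partition hG hM.1 hN h1)
    exact ⟨sub_p_elt hd (sigma_mmax_p_elt hM), h2 (hd (hqM M hM))⟩
  have htrR : ∀ M ∈ sigmaMmax x, ∀ L ∈ sigmaMmax x,
      ∃ r ∈ sigmaCore N ⊓ 𝐂₁ x, L = r •ᶜ M := by
    intro M hM L hL
    obtain ⟨c, hc, rfl⟩ := htr M hM L hL
    have hs := sdprod_sigma hG hN (hemb M hM).2.2.2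
    obtain ⟨u, hu, m, hm, rfl⟩ := hs.exists_mul (hCX hc)
    rw [conj_mul_smul, conjGid hm.1] at hL ⊢
    refine ⟨u, ⟨hu, mem_cent1.2 ?_⟩, rfl⟩
    have h1 : u⁻¹ * x * u ∈ M := mem_conj_smul.1 (sigma_mmax_mem hL)
    have huN : u ∈ N := hs.le_left hu
    have h2 : x⁻¹ * (u⁻¹ * x * u) = 1 := by
      refine hs.eq_one ?_ ⟨M.mul_mem (M.inv_mem (sigma_mmax_mem hM)) h1,
        N.mul_mem (N.inv_mem hxN) (N.mul_mem (N.mul_mem (N.inv_mem huN) hxN) huN)⟩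
      have h3 := mul_mem ((memJ_norm' (hs.norm_left hxN)).2 (inv_mem hu)) hu
      simpa only [mul_assoc] using h3
    rw [inv_mul_eq_one] at h2
    calc u * x = u * (u⁻¹ * x * u) := by rw [← h2]
      _ = x * u := by group
  obtain ⟨M, hM, L, hL, hML⟩ := hn
  obtain ⟨r, hr, rfl⟩ := htrR M hM L hL
  have hr1 : r ≠ 1 := fun h => hML (by rw [h, conj_one_smul])
  have hq2 := (hemb M hM).2.1
  rcases pi_of_cent_sigma hG hN hr.1 hr1 ⟨hxN, cent1C.1 hr.2⟩ hx1 (hemb M hM).1 with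
    ⟨h, -⟩ | ⟨h2, -, hu⟩
  · exact absurd hq2 (kappa_tau2' N (pnElem_mem_pi hX one_pos (pgroup_zpowers.2 h)))
  refine ⟨N, hu, trivgPn.2 ⟨r, hr, hr1⟩, h2, htrR, fun M hM => ⟨?_, (hemb M hM).2.2⟩⟩
  have hE := (hemb M hM).2.2.2
  obtain ⟨A, hA, -⟩ := ex_tau2Elem hG hN hE hq2
  exact fun p hp => ((primes_norm_tau2Elem hG hN hE hq2 hA hM.1
    (norm_noncyclic_sigma hG hM.1 (hqM M hM) (pnElem_pgroup hA) (hA.1.trans inf_le_left)
      (pnElem_not_cyclic hA le_rfl))).1 hp).1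

/-- B & G, Theorem 14.4, when `|𝓜_σ(x)| > 1`. -/
theorem FT_signalizer_context' (hG : Ctx G) {x : G} (hx : Ell1 x)
    (hn : (sigmaMmax x).Nontrivial) :
    UniqMax (𝐂₁ x) (signalizerBase x) ∧ signalizer x ≠ ⊥ ∧ PiElt (tau2 (signalizerBase x)) x ∧
      (MaxF (signalizerBase x) ∨ MaxP2 (signalizerBase x)) ∧
      ∀ M ∈ sigmaMmax x,
        SDProd (signalizer x) (M ⊓ signalizerBase x ⊓ 𝐂₁ x) (𝐂₁ x) ∧
        tau2 (signalizerBase x) ⊆ sigma M ∧
        piOf (Nat.card M) ∩ sigma (signalizerBase x) ⊆ beta (signalizerBase x) ∧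
        IsPiHallOf (sigma (signalizerBase x))ᶜ (M ⊓ signalizerBase x) (signalizerBase x) := by
  obtain ⟨N, hu, h1, h2, -, h3⟩ := FT_signalizer_aux hG hx.1 hn
  rw [signalizer, signalizerBase_eq_of_uniq hn hu]
  have hxN : x ∈ N := hu.le (cent1id x)
  refine ⟨hu, h1, h2, (not_maxP1_iff hu.mmax).1 fun h => ?_, fun M hM => ⟨?_, h3 M hM⟩⟩
  · obtain ⟨p, hp, hd, -⟩ := exists_constt_ne_one hx.1
    rcases h.2 p hp (hd.trans (order_dvdG hxN)) with h | h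
    · exact tau2_sub_sigma' N (h2 p hp hd) h
    · exact kappa_tau2' N h (h2 p hp hd)
  · have hs := sdprod_sigma hG hu.mmax (h3 M hM).2.2
    have hxMN : Subgroup.zpowers x ≤ M ⊓ N := Subgroup.zpowers_le.2 ⟨sigma_mmax_mem hM, hxN⟩
    have h := hs.subcent (hxMN.trans hs.norm) (normsG hxMN)
    rwa [cent_zpowers, inf_eq_right.2 hu.le] at h

/-- `C(x) = R[x] ⋊ C_M(x)` in all cases -/
theorem FT_signalizer_sdprod (hG : Ctx G) {x : G} (hx1 : x ≠ 1) {M : Subgroup G}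
    (hM : M ∈ sigmaMmax x) : SDProd (signalizer x) (M ⊓ 𝐂₁ x) (𝐂₁ x) := by
  by_cases hn : (sigmaMmax x).Nontrivial
  · obtain ⟨hu, -, -, -, h⟩ := FT_signalizer_context' hG ⟨hx1, M, hM⟩ hn
    have h := (h M hM).1
    rwa [inf_assoc, inf_eq_right.2 hu.le] at h
  · rw [signalizer_eq_bot hn,
      inf_eq_right.2 (cent1_sub_uniq_sigma_mmax hG (sigma_mmax_eq_singleton hM hn))]
    exact SDProd.bot_left _

theorem sigma_disjoint_signalizerBase (hG : Ctx G) {x : G} (hx1 : x ≠ 1)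
    (hn : (sigmaMmax x).Nontrivial) {M : Subgroup G} (hM : M ∈ sigmaMmax x) :
    Disjoint (sigma M) (sigma (signalizerBase x)) := by
  obtain ⟨hu, -, h2, -⟩ := FT_signalizer_context' hG ⟨hx1, M, hM⟩ hn
  refine (sigma_eq_or_disjoint hG hM.1 hu.mmax).resolve_left fun h => hx1 ?_
  exact p_elt_eq_one (h ▸ sigma_mmax_p_elt hM) (sub_p_elt (tau2_sub_sigma' _) h2)

theorem not_conj_signalizerBase (hG : Ctx G) {x : G} (hx1 : x ≠ 1)
    (hn : (sigmaMmax x).Nontrivial) {M : Subgroup G} (hM : M ∈ sigmaMmax x) :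
    ¬ ConjIn ⊤ M (signalizerBase x) := by
  rintro ⟨g, -, hg⟩
  have h := sigma_disjoint_signalizerBase hG hx1 hn hM
  rw [hg, sigmaJ] at h
  exact hx1 (p_elt_eq_one_of_disjoint h (sigma_mmax_p_elt hM) (sigma_mmax_p_elt hM))

theorem sigma'_FT_signalizer (hG : Ctx G) {M : Subgroup G} (hM : Mx M)
    {x : G} (hx : x ∈ sigmaCore M) (hx1 : x ≠ 1) :
    IsPiSubgroup (sigma M)ᶜ (signalizer x) := by
  by_cases hn : (sigmaMmax x).Nontrivial
  · exact sub_pgroup (Set.disjoint_right.1 (sigma_disjoint_signalizerBase hG hx1 hn ⟨hM, hx⟩))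
      (pgroupS inf_le_left (Msigma_pgroup _))
  · rw [signalizer_eq_bot hn]
    exact pgroup1

/-- B & G, Theorem 14.4, general part. -/
theorem FT_signalizer_context (hG : Ctx G) {x : G} (hx : Ell1 x) :
    (∀ M ∈ sigmaMmax x, ∀ L ∈ sigmaMmax x, ∃ r ∈ signalizer x, L = r •ᶜ M) ∧
      (∀ M ∈ sigmaMmax x, ∀ r ∈ signalizer x, r •ᶜ M ∈ sigmaMmax x) ∧
      Nat.card (signalizer x) = (sigmaMmax x).ncard ∧
      signalizer x ⊲ 𝐂₁ x ∧ IsHallOf (signalizer x) (𝐂₁ x) := by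
  obtain ⟨hx1, M, hM⟩ := hx
  have hs := FT_signalizer_sdprod hG hx1 hM
  have h1 : ∀ M ∈ sigmaMmax x, ∀ L ∈ sigmaMmax x, ∃ r ∈ signalizer x, L = r •ᶜ M := by
    by_cases hn : (sigmaMmax x).Nontrivial
    · obtain ⟨N, hu, -, -, h, -⟩ := FT_signalizer_aux hG hx1 hn
      rwa [signalizer, signalizerBase_eq_of_uniq hn hu]
    · exact fun M hM L hL => ⟨1, one_mem _, by
        rw [conj_one_smul]; exact Set.not_nontrivial_iff.1 hn hL hM⟩
  have h2 : ∀ M ∈ sigmaMmax x, ∀ r ∈ signalizer x, r •ᶜ M ∈ sigmaMmax x :=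
    fun M hM r hr => sigma_mmax_conj_cent1 hM hr.2
  refine ⟨h1, h2, ?_, hs.normal, hs.isHallOf_left_iff.2 ?_⟩
  · have e : sigmaMmax x = {Z | ∃ a ∈ signalizer x, Z = a •ᶜ M} := by
      ext L
      exact ⟨h1 M hM L, fun ⟨a, ha, e⟩ => e ▸ h2 M hM a ha⟩
    have e2 : M ⊓ signalizer x = ⊥ :=
      le_bot_iff.1 (hs.inf ▸ le_inf inf_le_right (inf_le_inf_left _ hs.le_left))
    rw [e, ncard_conjugates, norm_mmax hG hM.1, ← card_inf_mul_relIndex M, e2, Subgroup.card_bot,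
      one_mul]
  · by_cases hn : (sigmaMmax x).Nontrivial
    · obtain ⟨hu, -, -, -, h⟩ := FT_signalizer_context' hG ⟨hx1, M, hM⟩ hn
      exact pnat_coprime (pgroupS inf_le_left (Msigma_pgroup _))
        (pgroupS (inf_le_inf_left _ hu.le) (h M hM).2.2.2.2.1)
    · rw [signalizer_eq_bot hn, Subgroup.card_bot]
      exact Nat.coprime_one_left _

/-- `|𝓜_σ(x)| > 1` iff `C(x)` is not contained in `M` -/
theorem nontrivial_sigma_mmax_iff (hG : Ctx G) {x : G} (hx1 : x ≠ 1)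
    {M : Subgroup G} (hM : M ∈ sigmaMmax x) : (sigmaMmax x).Nontrivial ↔ ¬ 𝐂₁ x ≤ M := by
  refine ⟨fun hn hC => not_conj_signalizerBase hG hx1 hn hM ?_, fun h => ?_⟩
  · rw [← (FT_signalizer_context' hG ⟨hx1, M, hM⟩ hn).1.eq hM.1 hC]
    exact ConjIn.refl _ _
  · by_contra hn
    exact h (cent1_sub_uniq_sigma_mmax hG (sigma_mmax_eq_singleton hM hn))

omit [Finite G] in
theorem commute_FT_signalizer {x y : G} (hy : y ∈ signalizer x) : Commute x y :=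
  (mem_cent1_iff_commute.1 hy.2).symm

/-- `x` is the `σ(M)`-part of every element of `x R[x]` -/
theorem constt_sigma_cover (hG : Ctx G) {M : Subgroup G} (hM : Mx M)
    {x y : G} (hx : x ∈ sigmaCore M) (hx1 : x ≠ 1) (hy : y ∈ signalizer x) :
    constt (sigma M) (x * y) = x :=
  constt_mul_of_commute (commute_FT_signalizer hy) (mem_p_elt (Msigma_pgroup M) hx)
    (mem_p_elt (sigma'_FT_signalizer hG hM hx hx1) hy)

theorem nontrivial_of_mem_signalizer {x y : G} (hy : y ∈ signalizer x) (hy1 : y ≠ 1) :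
    (sigmaMmax x).Nontrivial := by
  by_contra hn
  rw [signalizer_eq_bot hn] at hy
  exact hy1 hy

/-- `N[x] ∈ 𝓜_σ(y)` for `y ∈ R[x]#` -/
theorem signalizerBase_mem_sigma_mmax (hG : Ctx G) {x y : G} (hx : Ell1 x)
    (hy : y ∈ signalizer x) (hy1 : y ≠ 1) : signalizerBase x ∈ sigmaMmax y :=
  ⟨(FT_signalizer_context' hG hx (nontrivial_of_mem_signalizer hy hy1)).1.mmax, hy.1⟩

theorem sigma_cover_decomposition (hG : Ctx G) {x y : G} (hx : Ell1 x)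
    (hy : y ∈ signalizer x) : sigmaDecomp (x * y) = insert x ({y} \ {1}) := by
  by_cases hy1 : y = 1
  · rw [hy1, mul_one, ell1_decomposition hG hx]
    simp
  · obtain ⟨hx1, M, hM⟩ := hx
    have e1 := constt_sigma_cover hG hM.1 hM.2 hx1 hy
    have e2 : constt (sigma M)ᶜ (x * y) = y :=
      constt_mul_of_commute' (commute_FT_signalizer hy) (by simpa using sigma_mmax_p_elt hM)
        (mem_p_elt (sigma'_FT_signalizer hG hM.1 hM.2 hx1) hy)
    have h := sigma_decomposition_constt' hG hM.1 (x * y)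
    rw [e1, e2, ell1_decomposition hG
      ⟨hy1, _, signalizerBase_mem_sigma_mmax hG ⟨hx1, M, hM⟩ hy hy1⟩] at h
    have hxm : x ∈ sigmaDecomp (x * y) := ⟨hx1, M, hM.1, e1.symm⟩
    rw [Set.diff_singleton_eq_self (by simpa using Ne.symm hy1), h, Set.insert_diff_singleton,
      Set.insert_eq_of_mem hxm]

theorem mem_sigma_cover_decomposition (hG : Ctx G) {x g : G} (hx : Ell1 x)
    (hg : x⁻¹ * g ∈ signalizer x) : x ∈ sigmaDecomp g := by
  have h := sigma_cover_decomposition hG hx hg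
  rw [mul_inv_cancel_left] at h
  rw [h]
  exact Set.mem_insert _ _

theorem FT_signalizer_baseJ (hG : Ctx G) {x : G} (hx : Ell1 x) (z : G) :
    signalizerBase (z * x * z⁻¹) = z •ᶜ signalizerBase x := by
  by_cases hn : (sigmaMmax x).Nontrivial
  · refine signalizerBase_eq_of_uniq ((nontrivial_sigma_mmaxJ x z).2 hn) ?_
    rw [cent1J]
    exact def_uniq_mmaxJ z (FT_signalizer_context' hG hx hn).1
  · rw [signalizerBase, signalizerBase, dif_neg fun h => hn ((nontrivial_sigma_mmaxJ x z).1 h.1),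
      dif_neg fun h => hn h.1, conjs1g]

theorem FT_signalizerJ (hG : Ctx G) {x : G} (hx : Ell1 x) (z : G) :
    signalizer (z * x * z⁻¹) = z •ᶜ signalizer x := by
  rw [signalizer, signalizer, FT_signalizer_baseJ hG hx, MsigmaJ, cent1J, conjIg]

theorem sigma_support_conj (hG : Ctx G) {M : Subgroup G} (hM : Mx M) (z : G)
    {g : G} (h : g ∈ sigmaSupport M) : z * g * z⁻¹ ∈ sigmaSupport (z •ᶜ M) := by
  obtain ⟨x, hx, hx1, hg⟩ := h
  refine ⟨z * x * z⁻¹, ?_, fun h => hx1 (conjg_eq1.1 h), ?_⟩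
  · rw [MsigmaJ]
    exact conj_mem_conj_smul z hx
  · rw [FT_signalizerJ hG (Msigma_ell1 hM hx hx1)]
    have h := conj_mem_conj_smul z hg
    convert h using 1
    group

theorem sigma_supportJ (hG : Ctx G) {M : Subgroup G} (hM : Mx M) (z g : G) :
    z * g * z⁻¹ ∈ sigmaSupport (z •ᶜ M) ↔ g ∈ sigmaSupport M := by
  refine ⟨fun h => ?_, sigma_support_conj hG hM z⟩
  have h' := sigma_support_conj hG ((mmaxJ z).2 hM) z⁻¹ h
  rw [conj_inv_smul_conj_smul] at h'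
  convert h' using 1
  group

theorem one_not_mem_sigma_support (hG : Ctx G) {M : Subgroup G}
    (hM : Mx M) : (1 : G) ∉ sigmaSupport M := by
  rintro ⟨x, hx, hx1, h⟩
  rw [mul_one, inv_mem_iff] at h
  exact hx1 (p_elt_eq_one (mem_p_elt (Msigma_pgroup M) hx)
    (mem_p_elt (sigma'_FT_signalizer hG hM hx hx1) h))

end Cfsg.Lib.FT.PG
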