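import Cfsg.Agent.PG.BG14.T4

/-!
B & G, Lemmas 14.5 and 14.6.
-/

set_option autoImplicit false
set_option linter.unusedSectionVars false

open Pointwise Cfsg Cfsg.Lib.Solv

namespace Cfsg.Lib.FT.PG

variable {G : Type*} [Group G] [Dl G] [Finite G]

/-- B & G, Lemma 14.5(a). -/
theorem sigma_cover_disjoint (hG : Ctx G) {x y g : G} (hx : Ell1 x) (hy : Ell1 y)
    (hgx : x⁻¹ * g ∈ signalizer x) (hgy : y⁻¹ * g ∈ signalizer y) : x = y := by
  by_contra hne
  have h := sigma_cover_decomposition hG hx hgx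
  rw [mul_inv_cancel_left] at h
  have h1 := mem_sigma_cover_decomposition hG hy hgy
  rw [h] at h1
  have e : y = x⁻¹ * g := (h1.resolve_left (Ne.symm hne)).1
  have hyx : y ∈ signalizer x := e ▸ hgx
  have hxy : x ∈ signalizer y := by
    have e' : g = y * x := by rw [← (commute_FT_signalizer hyx).eq, e, mul_inv_cancel_left]
    rwa [e', inv_mul_cancel_left] at hgy
  have hN := signalizerBase_mem_sigma_mmax hG hy hxy hx.1
  exact hy.1 ((FT_signalizer_sdprod hG hx.1 hN).eq_one hyx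
    ⟨(FT_signalizer_context' hG hy (nontrivial_of_mem_signalizer hxy hx.1)).1.le (cent1id y), hyx.2⟩)

/-- B & G, Lemma 14.5(b). -/
theorem sigma_support_disjoint (hG : Ctx G) {M₁ M₂ : Subgroup G}
    (h₁ : Mx M₁) (h₂ : Mx M₂) (h : ¬ ConjIn ⊤ M₁ M₂) :
    Disjoint (sigmaSupport M₁) (sigmaSupport M₂) := by
  rw [Set.disjoint_left]
  rintro g ⟨x, hx, hx1, hgx⟩ ⟨y, hy, hy1, hgy⟩
  obtain rfl := sigma_cover_disjoint hG (Msigma_ell1 h₁ hx hx1) (Msigma_ell1 h₂ hy hy1) hgx hgy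
  exact h (sigma_mmax_conj hG hx1 ⟨h₁, hx⟩ ⟨h₂, hy⟩)

/-- B & G, Lemma 14.5(b), for the class supports. -/
theorem class_sigma_support_disjoint (hG : Ctx G) {M₁ M₂ : Subgroup G}
    (h₁ : Mx M₁) (h₂ : Mx M₂) (h : ¬ ConjIn ⊤ M₁ M₂) :
    Disjoint (classSupport (sigmaSupport M₁) ⊤) (classSupport (sigmaSupport M₂) ⊤) := by
  rw [disjoint_classSupport_iff]
  intro a ha g hg
  refine Set.disjoint_left.1 (sigma_support_disjoint hG ((mmaxJ g).2 h₁) h₂ fun h' => h ?_)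
    (sigma_support_conj hG h₁ g ha)
  exact (ConjIn.of_conj hg M₁).trans h'

theorem mem_class_sigma_support (hG : Ctx G) {M : Subgroup G} (hM : Mx M)
    {g : G} : g ∈ classSupport (sigmaSupport M) ⊤ ↔ ∃ z : G, g ∈ sigmaSupport (z •ᶜ M) := by
  constructor
  · rintro ⟨a, ha, z, -, rfl⟩
    exact ⟨z, sigma_support_conj hG hM z ha⟩
  · rintro ⟨z, h⟩
    refine ⟨z⁻¹ * g * z, (sigma_supportJ hG hM z _).1 ?_, z, trivial, by group⟩
    convert h using 1
    group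

/-- B & G, Lemma 14.5(c). -/
theorem card_class_support_sigma (hG : Ctx G) {M : Subgroup G}
    (hM : Mx M) :
    (classSupport (sigmaSupport M) ⊤).ncard = (Nat.card (sigmaCore M) - 1) * M.index := by
  classical
  haveI := Fintype.ofFinite G
  haveI := Fintype.ofFinite (Subgroup G)
  set D : Finset G := Finset.univ.filter fun x => x ≠ 1 ∧ ∃ z : G, z •ᶜ M ∈ sigmaMmax x with hD
  set O : Finset (Subgroup G) := Finset.univ.filter fun L => ConjIn ⊤ M L with hO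
  have hDe : ∀ x ∈ D, Ell1 x := fun x hx => by
    obtain ⟨hx1, z, hz⟩ := (Finset.mem_filter.1 hx).2
    exact ⟨hx1, _, hz⟩
  have e1 : classSupport (sigmaSupport M) ⊤ =
      ↑(D.biUnion fun x => Finset.univ.filter fun g => x⁻¹ * g ∈ signalizer x) := by
    ext g
    simp only [mem_class_sigma_support hG hM, hD, Finset.coe_biUnion, Finset.coe_filter,
      Finset.mem_univ, true_and, Set.mem_iUnion, Set.mem_setOf_eq, exists_prop]
    constructor
    · rintro ⟨z, x, hx, hx1, hg⟩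
      exact ⟨x, ⟨hx1, z, (mmaxJ z).2 hM, hx⟩, hg⟩
    · rintro ⟨x, ⟨hx1, z, hz⟩, hg⟩
      exact ⟨z, x, hz.2, hx1, hg⟩
  have e2 : ∀ x ∈ D, (Finset.univ.filter fun g => x⁻¹ * g ∈ signalizer x).card =
      (O.bipartiteAbove (fun x L => L ∈ sigmaMmax x) x).card := fun x hx => by
    obtain ⟨hx1, z, hz⟩ := (Finset.mem_filter.1 hx).2
    have h1 : (Finset.univ.filter fun g => x⁻¹ * g ∈ signalizer x).card =
        Nat.card (signalizer x) := by
      rw [← ncard_coe_subgroup, ← Set.ncard_coe_finset,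
        ← Set.ncard_preimage_of_injective_subset_range (s := (signalizer x : Set G))
          (mul_right_injective x⁻¹)
          (by rw [(Group.mulLeft_bijective x⁻¹).surjective.range_eq]; exact Set.subset_univ _)]
      congr 1
      ext g
      simp
    rw [h1, (FT_signalizer_context hG (hDe x hx)).2.2.1, ← Set.ncard_coe_finset]
    congr 1
    ext L
    simp only [Finset.coe_bipartiteAbove, hO, Finset.coe_filter, Finset.mem_univ, true_and,
      Set.mem_setOf_eq, Finset.mem_filter]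
    exact ⟨fun h => ⟨(ConjIn.of_conj (Subgroup.mem_top z) M).trans (sigma_mmax_conj hG hx1 hz h), h⟩,
      fun h => h.2⟩
  have e3 : ∀ L ∈ O, (D.bipartiteBelow (fun x L => L ∈ sigmaMmax x) L).card =
      Nat.card (sigmaCore M) - 1 := fun L hL => by
    obtain ⟨z, -, rfl⟩ := (Finset.mem_filter.1 hL).2
    rw [← card_conj_smul z, ← MsigmaJ, ← ncard_sharp, ← Set.ncard_coe_finset]
    congr 1
    ext x
    simp only [Finset.coe_bipartiteBelow, hD, Finset.coe_filter, Finset.mem_univ, true_and,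
      Set.mem_setOf_eq, Finset.mem_filter, mem_sharp]
    exact ⟨fun h => ⟨h.2.2, h.1.1⟩, fun h => ⟨⟨h.2, z, (mmaxJ z).2 hM, h.1⟩, (mmaxJ z).2 hM, h.1⟩⟩
  have e4 : O.card = M.index := by
    rw [← Set.ncard_coe_finset, ← Subgroup.relIndex_top_right, ← norm_mmax hG hM,
      ← ncard_conjugates]
    congr 1
    ext L
    simp [hO, ConjIn]
  rw [e1, Set.ncard_coe_finset, Finset.card_biUnion, Finset.sum_congr rfl e2,
    Finset.sum_card_bipartiteAbove_eq_sum_card_bipartiteBelow, Finset.sum_congr rfl e3,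
    Finset.sum_const, e4, smul_eq_mul, mul_comm]
  intro x hx y hy hne
  rw [Function.onFun, Finset.disjoint_left]
  intro g h1 h2
  exact hne (sigma_cover_disjoint hG (hDe x hx) (hDe y hy) (Finset.mem_filter.1 h1).2
    (Finset.mem_filter.1 h2).2)

/-- the two alternatives of 14.6 exclude each other -/
theorem sigma_decomposition_not_both (hG : Ctx G) {g x y : G} {M : Subgroup G}
    (hx : Ell1 x) (hgx : x⁻¹ * g ∈ signalizer x) (hy1 : y ≠ 1) (hM : M ∈ sigmaMmax y)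
    (hC : y⁻¹ * g ∈ M ⊓ 𝐂₁ y) (hne : y⁻¹ * g ≠ 1) (hκ : PiElt (kappa M) (y⁻¹ * g)) : False := by
  have h := sigma_cover_decomposition hG hx hgx
  rw [mul_inv_cancel_left] at h
  have hc : Commute y (y⁻¹ * g) := (mem_cent1_iff_commute.1 hC.2).symm
  have h1 : y ∈ sigmaDecomp g := ⟨hy1, M, hM.1, (constt_unique (mul_inv_cancel_left y g) hc
    (sigma_mmax_p_elt hM) (sub_p_elt (kappa_sigma' M) hκ)).symm⟩
  rw [h] at h1
  rcases h1 with rfl | ⟨e, -⟩
  · exact hne ((FT_signalizer_sdprod hG hy1 hM).eq_one hgx hC)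
  · have e : y = x⁻¹ * g := e
    have hyx : y ∈ signalizer x := e ▸ hgx
    have e' : y⁻¹ * g = x := by
      rw [inv_mul_eq_iff_eq_mul, ← (commute_FT_signalizer hyx).eq, e, mul_inv_cancel_left]
    obtain ⟨z, -, hz⟩ := sigma_mmax_conj hG hy1 hM (signalizerBase_mem_sigma_mmax hG hx hyx hy1)
    have h2 := (FT_signalizer_context' hG hx (nontrivial_of_mem_signalizer hyx hy1)).2.2.1
    rw [hz, tau2J] at h2
    rw [e'] at hκ
    exact hx.1 (p_elt_eq_one h2 (sub_p_elt (kappa_tau2' M) hκ))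

/-- B & G, Lemma 14.6. -/
theorem sigma_decomposition_dichotomy (hG : Ctx G) {g : G} (hg : g ≠ 1)
    (hgd : PiElt (dl G) g := by dlt) :
    Xor' (∃ x : G, Ell1 x ∧ x⁻¹ * g ∈ signalizer x)
      (∃ y : G, y ≠ 1 ∧ ∃ M ∈ sigmaMmax y,
        y⁻¹ * g ∈ M ⊓ 𝐂₁ y ∧ y⁻¹ * g ≠ 1 ∧ PiElt (kappa M) (y⁻¹ * g)) := by
  by_cases h1 : ∃ x : G, Ell1 x ∧ x⁻¹ * g ∈ signalizer x
  · refine Or.inl ⟨h1, ?_⟩
    obtain ⟨x, hx, hgx⟩ := h1
    rintro ⟨y, hy1, M, hM, hC, hne, hκ⟩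
    exact sigma_decomposition_not_both hG hx hgx hy1 hM hC hne hκ
  refine Or.inr ⟨?_, h1⟩
  by_contra h2
  -- no maximal subgroup `M` contains `g` unless `g` is a `σ(M)'`-element
  have key : ∀ M : Subgroup G, Mx M → g ∈ M → constt (sigma M) g = 1 := by
    intro M hM hgM
    by_contra hx1
    set x := constt (sigma M) g with hxd
    have hx : x ∈ sigmaCore M := sub_Msigma hG hM (Subgroup.zpowers_le.2 (groupX_constt _ hgM))
      (pgroup_zpowers.2 (p_elt_constt _ g)) (Subgroup.mem_zpowers x)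
    have e : x⁻¹ * g = constt (sigma M)ᶜ g := by
      rw [inv_mul_eq_iff_eq_mul, hxd, consttC]
    have hC : x⁻¹ * g ∈ M ⊓ 𝐂₁ x := by
      rw [e]
      exact ⟨groupX_constt _ hgM,
        mem_cent1_iff_commute.2 (commute_constt_constt _ _ (Commute.refl g))⟩
    have hne : x⁻¹ * g ≠ 1 := fun h => h1 ⟨x, Msigma_ell1 hM hx hx1, h ▸ one_mem _⟩
    have hσ : PiElt (sigma M)ᶜ (x⁻¹ * g) := e ▸ p_elt_constt _ g
    rcases pi_of_cent_sigma hG hM hx hx1 hC hne hσ with ⟨h, -⟩ | ⟨-, ⟨-, L, hL⟩, hu⟩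
    · exact h2 ⟨x, hx1, M, ⟨hM, hx⟩, hC, hne, h⟩
    · have hn : (sigmaMmax (x⁻¹ * g)).Nontrivial := by
        refine (nontrivial_sigma_mmax_iff hG hne hL).2 fun h => hne ?_
        exact p_elt_eq_one (hu.eq hL.1 h ▸ sigma_mmax_p_elt hL) hσ
      refine h1 ⟨x⁻¹ * g, ⟨hne, L, hL⟩, ?_⟩
      have e' : (x⁻¹ * g)⁻¹ * g = x := by
        rw [inv_mul_eq_iff_eq_mul, mem_cent1.1 hC.2, mul_inv_cancel_left]
      rw [e', signalizer, signalizerBase_eq_of_uniq hn hu]
      exact ⟨hx, cent1C.1 hC.2⟩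
  obtain ⟨p, hp, hd, -⟩ := exists_constt_ne_one hg
  obtain ⟨M₀, hM₀, hpM⟩ := sigma_mmax_exists hG hp (hgd p hp hd)
  have hx1 := constt_ne_one_of_dvd hp hd hpM
  obtain ⟨hx, z, hM⟩ := sigma_elt_ell1 hG hM₀ (p_elt_constt _ g) hx1
  rw [← sigmaJ z M₀] at hx hM hx1
  set M := z •ᶜ M₀
  set x := constt (sigma M) g
  have hgx : g ∈ 𝐂₁ x := cent1_le_cent1_constt _ g (cent1id g)
  have hn : (sigmaMmax x).Nontrivial :=
    (nontrivial_sigma_mmax_iff hG hx1 hM).2 fun h => hx1 (key M hM.1 (h hgx))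
  obtain ⟨hu, -, -, -, h⟩ := FT_signalizer_context' hG hx hn
  have hgN := hu.le hgx
  obtain ⟨u, -, hu'⟩ := Hall_subJ (mmax_sol hG hu.mmax) (h M hM).2.2.2 (Subgroup.zpowers_le.2 hgN)
    (pgroup_zpowers.2 (constt1P.1 (key _ hu.mmax hgN)))
  have h3 := key (u •ᶜ M) ((mmaxJ u).2 hM.1)
    ((conjSg u).2 inf_le_left (hu' (Subgroup.mem_zpowers g)))
  rw [sigmaJ] at h3
  exact hx1 h3

end Cfsg.Lib.FT.PG
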