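import Cfsg.Agent.PG.BG14.T7b

/-!
B & G, Theorem 14.7 and Corollaries 14.8, 14.9, 14.10.
-/

set_option autoImplicit false
set_option linter.unusedSectionVars false

open Pointwise Cfsg Cfsg.Lib.Solv

namespace Cfsg.Lib.FT.PG

variable {G : Type*} [Group G] [Dl G] [Finite G]

/-- B & G, Theorem 14.7, with `K* = C_{M_σ}(K)`, `Z = K K*`. -/
theorem Ptype_embedding (hG : Ctx G) {M K : Subgroup G} (hM : MaxP M)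
    (hK : IsPiHallOf (kappa M) K M) :
    ∃ Mstar : Subgroup G, MaxP Mstar ∧ ¬ ConjIn ⊤ M Mstar ∧
      (∀ X : Subgroup G, X ≤ K → (Nat.card X).Prime → UniqMax (𝐂 X) Mstar) ∧
      (IsPiHallOf (kappa Mstar) (sigmaCore M ⊓ 𝐂 K) Mstar ∧
        IsPiHallOf (sigma M) (sigmaCore M ⊓ 𝐂 K) Mstar) ∧
      (sigmaCore Mstar ⊓ 𝐂 (sigmaCore M ⊓ 𝐂 K) = K ∧ kappa M = tau1 M) ∧
      (IsCyclic ↥(K ⊔ sigmaCore M ⊓ 𝐂 K) ∧ M ⊓ Mstar = K ⊔ sigmaCore M ⊓ 𝐂 K ∧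
        (∀ x ∈ K, x ≠ 1 → M ⊓ 𝐂₁ x = K ⊔ sigmaCore M ⊓ 𝐂 K) ∧
        (∀ y ∈ sigmaCore M ⊓ 𝐂 K, y ≠ 1 → Mstar ⊓ 𝐂₁ y = K ⊔ sigmaCore M ⊓ 𝐂 K) ∧
        ∀ x ∈ K, x ≠ 1 → ∀ y ∈ sigmaCore M ⊓ 𝐂 K, y ≠ 1 →
          𝐂₁ (x * y) = K ⊔ sigmaCore M ⊓ 𝐂 K) ∧
      (NormedTI (zhat K (sigmaCore M ⊓ 𝐂 K)) ⊤ (K ⊔ sigmaCore M ⊓ 𝐂 K) ∧
        (∀ g : G, g ∉ M → ∀ z ∈ zhat K (sigmaCore M ⊓ 𝐂 K), z ∉ g •ᶜ M) ∧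
        Nat.card G < 2 * (classSupport (zhat K (sigmaCore M ⊓ 𝐂 K)) ⊤).ncard) ∧
      ((MaxP2 M ∧ (Nat.card K).Prime) ∨
        (MaxP2 Mstar ∧ (Nat.card (sigmaCore M ⊓ 𝐂 K : Subgroup G)).Prime)) ∧
      (∀ H : Subgroup G, MaxP H → ConjIn ⊤ M H ∨ ConjIn ⊤ Mstar H) ∧
      SDProd ⁅M, M⁆ K M := by
  have h := T7Pair.mk' hM hK
  obtain ⟨L, h', hne⟩ := h.exists_star hG
  exact ⟨L, h'.maxP, h.not_conj hG h' hne, fun X hX hp => h'.uniq hG hX hp,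
    ⟨h'.hall, h.sigma_Hall hG h' hne⟩, ⟨h'.star, h.kappa_eq hG⟩,
    ⟨h.cyclic hG, h.inf_eq hG h' hne, fun x hx hx1 => h.cent1_K hG hx hx1,
      fun y hy hy1 => h'.cent1_K hG hy hy1,
      fun x hx hx1 y hy hy1 => h.cent1_zhat hG (h.mul_mem_zhat hG hx hx1 hy hy1)⟩,
    ⟨h.zhat_normedTI hG, fun g hg z hz => h.zhat_not_mem hG hz hg, h.card_support_zhat hG⟩,
    h.P2_or hG h' hne, fun H hH => h.conj_or hG h' hne hH, h.sdprod_der hG⟩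

end Cfsg.Lib.FT.PG
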