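import Cfsg.Agent.PG.BG14.T7a

/-!
B & G, Theorem 14.7, second part: the counting argument, and the structure of `Z`.
-/

set_option autoImplicit false
set_option linter.unusedSectionVars false

open Pointwise Cfsg Cfsg.Lib.Solv

namespace Cfsg.Lib.FT.PG

variable {G : Type*} [Group G] [Dl G] [Finite G]

namespace T7Pair

variable {M K S Z L KL SL ZL X Y : Subgroup G} {x y g : G}

variable (hG : Ctx G)
include hG

theorem Z_ne (h : T7Pair M K S Z) : Z ≠ M := by
  obtain ⟨L, KL, SL, h', hne⟩ := h.exists_ne hG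
  intro e
  exact hne (eq_mmax h.max h'.max (e ▸ h'.le hG)).symm

/-- lower bound for the class support of `M~`, `M` of type `P1` -/
theorem card_support_P1 (h : T7Pair M K S Z) (h1 : MaxP1 M) :
    2 * (Nat.card S - 1) * Z.index + Z.index ≤ 2 * (classSupport (sigmaSupport M) ⊤).ncard := by
  obtain ⟨U, hU, -, hM, -⟩ := (Ptype_structure hG h.maxP h.hall).1
  rw [(trivg_kappa_compl hG h.max hU).mpr h1, bot_sup_eq] at hM
  have e1 := hM.card
  have e2 := (h.dprod hG).card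
  have e3 := card_mul_relIndex_of_le (h.le hG)
  have e4 := Subgroup.relIndex_mul_index (h.le hG)
  have hr : 2 ≤ Z.relIndex M := by
    have h0 : Z.relIndex M ≠ 0 := Subgroup.index_ne_zero_of_finite
    have h1 : Z.relIndex M ≠ 1 := fun e =>
      h.Z_ne hG (le_antisymm (h.le hG) (Subgroup.relIndex_eq_one.mp e))
    omega
  have e5 : Nat.card (sigmaCore M) = Nat.card S * Z.relIndex M := by
    refine Nat.eq_of_mul_eq_mul_right (cardG_gt0 K) ?_
    rw [e1, ← e3, ← e2]; ring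
  rw [card_class_support_sigma hG h.max, e5, ← e4]
  obtain ⟨s, hs⟩ := Nat.exists_eq_add_of_le' (cardG_gt0 S)
  obtain ⟨r, hr⟩ := Nat.exists_eq_add_of_le' hr
  rw [hs, hr]
  have : (s + 1) * (r + 2) - 1 = s * (r + 2) + r + 1 := by
    rw [Nat.sub_eq_iff_eq_add (Nat.succ_le_of_lt (by positivity))]; ring
  rw [Nat.succ_eq_add_one, zero_add, this, Nat.add_sub_cancel]
  nlinarith [Nat.zero_le (r * M.index)]

theorem exists_zhat (h : T7Pair M K S Z) (hx : x ∈ Z)
    (hT : ∀ L KL SL : Subgroup G, T7Pair L KL SL Z → x ∉ sigmaCore L) :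
    ∃ L KL SL : Subgroup G, T7Pair L KL SL Z ∧ x ∈ zhat KL SL := by
  by_cases hK : x ∈ K
  · have hx1 : x ≠ 1 := fun e => hT M K S h (e ▸ (sigmaCore M).one_mem)
    obtain ⟨y, hy, hp⟩ := exists_prime_order_pow hx1
    have hyK : y ∈ K := Subgroup.zpowers_le_of_mem hK hy
    obtain ⟨L, KL, SL, h', hyS, -⟩ := h.exists_partner hG (Subgroup.zpowers_le_of_mem hyK)
      (by rwa [Nat.card_zpowers])
    refine ⟨L, KL, SL, h', mem_zhat.mpr ⟨h'.sup ▸ hx, fun h1 => ?_,
      fun h1 => hT L KL SL h' (h'.S_le_sigma h1)⟩⟩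
    have := (h'.dprod hG).eq_one (Subgroup.zpowers_le_of_mem h1 hy) (hyS (Subgroup.mem_zpowers y))
    rw [this, orderOf_one] at hp
    exact Nat.not_prime_one hp
  · exact ⟨M, K, S, h, mem_zhat.mpr ⟨h.sup ▸ hx, hK, fun h1 => hT M K S h (h.S_le_sigma h1)⟩⟩

/-- the counting argument: some member of the family is of type `P2` -/
theorem exists_P2 (h : T7Pair M K S Z) :
    ∃ L KL SL : Subgroup G, T7Pair L KL SL Z ∧ MaxP2 L := by
  classical
  by_contra hcon
  have hP1 : ∀ L KL SL : Subgroup G, T7Pair L KL SL Z → MaxP1 L := fun L KL SL h' =>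
    h'.maxP.p1_or_p2.resolve_right fun h2 => hcon ⟨L, KL, SL, h', h2⟩
  set F : Finset (Subgroup G) :=
    (Set.toFinite {L : Subgroup G | ∃ KL SL, T7Pair L KL SL Z}).toFinset with hF
  have memF : ∀ L, L ∈ F ↔ ∃ KL SL, T7Pair L KL SL Z := fun L => by simp [hF]
  set T : Set G := {x | x ∈ Z ∧ ∀ L KL SL : Subgroup G, T7Pair L KL SL Z → x ∉ sigmaCore L}
    with hT
  have hF2 : 2 ≤ F.card := by
    obtain ⟨L, KL, SL, h', hne⟩ := h.exists_ne hG
    exact Finset.one_lt_card.mpr ⟨L, (memF L).mpr ⟨_, _, h'⟩, M, (memF M).mpr ⟨_, _, h⟩, hne⟩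
  have hTI : NormedTI T ⊤ Z := by
    refine ⟨?_, le_top, fun g hg x hx => ⟨Z.mul_mem (Z.mul_mem hg hx.1) (Z.inv_mem hg), ?_⟩,
      fun g _ x hx hg => ?_⟩
    · obtain ⟨x, hx⟩ := h.zhat_nonempty hG
      obtain ⟨h1, h2, h3⟩ := mem_zhat.mp hx
      rw [h.sup] at h1
      refine ⟨x, h1, fun L KL SL h' h4 => ?_⟩
      have h5 : x ∈ SL := h'.S_eq hG ▸ ⟨h4, h1⟩
      by_cases e : M = L
      · subst e
        exact h3 (h.S_eq hG ▸ ⟨h4, h1⟩)
      · exact h2 (h.S_le_K hG h' e h5)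
    · intro L KL SL h' h4
      exact hx.2 L KL SL h' ((memJ_norm ((Msigma_normal L).norm (h'.le hG hg))).mp h4)
    · obtain ⟨L, KL, SL, h', h1⟩ := h.exists_zhat hG hx.1 hx.2
      exact h'.zhat_ti hG h1 hg.1
  have hZ : Nat.card Z ≤ T.ncard + 1 + ∑ L ∈ F, (Nat.card (sigmaCore L ⊓ Z : Subgroup G) - 1) := by
    have h1 : (Z : Set G) ⊆ (T ∪ {1}) ∪ ⋃ L ∈ F, sharp (sigmaCore L ⊓ Z) := by
      intro x hx
      by_cases hxT : x ∈ T
      · exact Or.inl (Or.inl hxT)
      by_cases hx1 : x = 1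
      · exact Or.inl (Or.inr hx1)
      right
      by_contra h2
      refine hxT ⟨hx, fun L KL SL h' h3 => h2 ?_⟩
      exact Set.mem_biUnion ((memF L).mpr ⟨_, _, h'⟩) ⟨⟨h3, hx⟩, hx1⟩
    calc Nat.card Z = (Z : Set G).ncard := (ncard_coe_subgroup Z).symm
      _ ≤ _ := Set.ncard_le_ncard h1
      _ ≤ (T ∪ {1}).ncard + (⋃ L ∈ F, sharp (sigmaCore L ⊓ Z)).ncard := Set.ncard_union_le _ _
      _ ≤ _ := by
        refine Nat.add_le_add ((Set.ncard_union_le _ _).trans (by simp)) ?_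
        refine (F.set_ncard_biUnion_le _).trans (le_of_eq ?_)
        exact Finset.sum_congr rfl fun L _ => ncard_sharp _
  have hC : (classSupport T ⊤).ncard + ∑ L ∈ F, (classSupport (sigmaSupport L) ⊤).ncard ≤
      Nat.card G - 1 := by
    have h1 : (⋃ L ∈ (F : Set (Subgroup G)), classSupport (sigmaSupport L) ⊤).ncard =
        ∑ L ∈ F, (classSupport (sigmaSupport L) ⊤).ncard := by
      rw [F.finite_toSet.ncard_biUnion (fun _ _ => Set.toFinite _), finsum_mem_coe_finset]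
      intro L₁ h₁ L₂ h₂ hne
      obtain ⟨K₁, S₁, h₁⟩ := (memF _).mp h₁
      obtain ⟨K₂, S₂, h₂⟩ := (memF _).mp h₂
      exact class_sigma_support_disjoint hG h₁.max h₂.max (h₁.not_conj hG h₂ hne)
    have h2 : Disjoint (classSupport T ⊤)
        (⋃ L ∈ (F : Set (Subgroup G)), classSupport (sigmaSupport L) ⊤) := by
      simp only [Set.disjoint_iUnion_right]
      intro L hL
      obtain ⟨KL, SL, hL⟩ := (memF _).mp hL
      rw [disjoint_classSupport_iff]
      intro x hx g _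
      obtain ⟨L', KL', SL', h', h1⟩ := h.exists_zhat hG hx.1 hx.2
      exact h'.zhat_not_mem_support hG h1 hL.max
    rw [← h1, ← Set.ncard_union_eq h2, ← Subgroup.card_top, ← ncard_sharp]
    refine Set.ncard_le_ncard fun x hx => ⟨trivial, ?_⟩
    rintro rfl
    rcases hx with hx | hx
    · exact (one_mem_classSupport.mp hx).2 M K S h (sigmaCore M).one_mem
    · obtain ⟨L, hL, hx⟩ := Set.mem_iUnion₂.mp hx
      obtain ⟨KL, SL, hL⟩ := (memF _).mp hL
      exact one_not_mem_sigma_support hG hL.max (one_mem_classSupport.mp hx)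
  have hS : ∑ L ∈ F, (2 * (Nat.card (sigmaCore L ⊓ Z : Subgroup G) - 1) * Z.index + Z.index) ≤
      ∑ L ∈ F, 2 * (classSupport (sigmaSupport L) ⊤).ncard := by
    refine Finset.sum_le_sum fun L hL => ?_
    obtain ⟨KL, SL, hL⟩ := (memF _).mp hL
    rw [← hL.S_eq hG]
    exact hL.card_support_P1 hG (hP1 _ _ _ hL)
  rw [Finset.sum_add_distrib, ← Finset.sum_mul, ← Finset.mul_sum, ← Finset.mul_sum,
    Finset.sum_const, smul_eq_mul] at hS
  rw [hTI.card_support_top] at hC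
  have e := Z.card_mul_index
  have hG0 : 0 < Nat.card G := Nat.card_pos
  have h3 := Nat.mul_le_mul_right Z.index hZ
  have h4 := Nat.mul_le_mul_right Z.index hF2
  rw [e] at h3
  generalize ∑ L ∈ F, (Nat.card (sigmaCore L ⊓ Z : Subgroup G) - 1) = a at *
  generalize ∑ L ∈ F, (classSupport (sigmaSupport L) ⊤).ncard = b at *
  have h5 : (T.ncard + 1 + a) * Z.index = T.ncard * Z.index + Z.index + a * Z.index := by ring
  have h6 : 2 * a * Z.index = 2 * (a * Z.index) := by ring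
  omega

/-- the family has exactly two members -/
theorem eq_or_eq (h : T7Pair M K S Z) (h' : T7Pair L KL SL Z) (hne : M ≠ L)
    {H KH SH : Subgroup G} (hH : T7Pair H KH SH Z) : H = M ∨ H = L := by
  obtain ⟨N, KN, SN, hN, h2⟩ := h.exists_P2 hG
  have hp := ((Ptype_structure hG hN.maxP hN.hall).2.2.2.2.2.2 h2).2.1
  have key : ∀ {A KA SA : Subgroup G}, T7Pair A KA SA Z → N ≠ A → UniqMax (𝐂 KN) A := by
    intro A KA SA hA hne
    refine hA.uniq hG (prime_meetG hp ?_) hp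
    rw [inf_eq_right.mpr (hN.S_le_K hG hA hne)]
    exact hA.S_ne hG
  by_cases e1 : N = M
  · subst e1
    by_cases e2 : N = H
    · exact Or.inl e2.symm
    · exact Or.inr ((key h' hne).unique (key hH e2))
  by_cases e2 : N = L
  · subst e2
    by_cases e3 : N = H
    · exact Or.inr e3.symm
    · exact Or.inl ((key h e1).unique (key hH e3))
  exact absurd ((key h' e2).unique (key h e1)) hne

theorem S_eq_K (h : T7Pair M K S Z) (h' : T7Pair L KL SL Z) (hne : M ≠ L) : SL = K := by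
  refine le_antisymm (h.S_le_K hG h' hne) ?_
  refine (h'.le_S hG (h.dprod hG).le_left).mpr fun p hp hd => ?_
  obtain ⟨X, hX, rfl⟩ := exists_prime_subgroup hp hd
  obtain ⟨H, KH, SH, hH, hXS, hHM⟩ := h.exists_partner hG hX hp
  obtain rfl := (h.eq_or_eq hG h' hne hH).resolve_left hHM
  exact hH.S_sigma _ hp (cardSg hXS)

/-- the partner `M*` of `M` -/
theorem exists_star (h : T7Pair M K S Z) : ∃ L : Subgroup G, T7Pair L S K Z ∧ M ≠ L := by
  obtain ⟨L, KL, SL, h', hne⟩ := h.exists_ne hG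
  obtain rfl := h.S_eq_K hG h' hne.symm
  obtain rfl := h'.S_eq_K hG h hne
  exact ⟨L, h', hne.symm⟩

theorem P2_or (h : T7Pair M K S Z) (h' : T7Pair L S K Z) (hne : M ≠ L) :
    (MaxP2 M ∧ (Nat.card K).Prime) ∨ (MaxP2 L ∧ (Nat.card S).Prime) := by
  obtain ⟨N, KN, SN, hN, h2⟩ := h.exists_P2 hG
  rcases h.eq_or_eq hG h' hne hN with rfl | rfl
  · exact Or.inl ⟨h2, ((Ptype_structure hG h.maxP h.hall).2.2.2.2.2.2 h2).2.1⟩
  · exact Or.inr ⟨h2, ((Ptype_structure hG h'.maxP h'.hall).2.2.2.2.2.2 h2).2.1⟩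

theorem cyclic_of_P2 (h : T7Pair M K S Z) (h' : T7Pair L S K Z) (h2 : MaxP2 M) : IsCyclic Z := by
  obtain ⟨-, hp, hn, -⟩ := (Ptype_structure hG h.maxP h.hall).2.2.2.2.2.2 h2
  refine (h.dprod hG).cyclic (prime_cyclic hp) ?_ h.coprime
  refine nil_Zgroup_cyclic (Zgroup_iff.mpr fun p hp P hP => ?_) (nilpotentS h.S_le_sigma hn)
  have : Fact p.Prime := ⟨hp⟩
  by_cases hd : p ∣ Nat.card S
  · exact tau13_pgroup_cyclic hG (kappa_tau13 (pHall_pgroup h'.hall p hp hd)) (Sylow_pgroup hP)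
      ((pHall_sub hP).trans (pHall_sub h'.hall)) h'.max.1
  · rw [(Sylow_eq_bot_iff hP).mpr hd]
    infer_instance

theorem cyclic (h : T7Pair M K S Z) : IsCyclic Z := by
  obtain ⟨L, h', hne⟩ := h.exists_star hG
  rcases h.P2_or hG h' hne with h2 | h2
  · exact h.cyclic_of_P2 hG h' h2.1
  · exact h'.cyclic_of_P2 hG h h2.1

theorem cent1_K (h : T7Pair M K S Z) (hx : x ∈ K) (hx1 : x ≠ 1) : M ⊓ 𝐂₁ x = Z := by
  refine le_antisymm ?_ (le_inf (h.le hG) ?_)
  · obtain ⟨y, hy, hp⟩ := exists_prime_order_pow hx1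
    have hyK : y ∈ K := Subgroup.zpowers_le_of_mem hx hy
    rw [← h.normX hG (Subgroup.zpowers_le_of_mem hyK) (by rwa [Nat.card_zpowers])]
    exact inf_le_inf_left _ ((cent1_le_cent1_of_mem_zpowers hy).trans (cent1_le_norm_zpowers y))
  · exact (abelian_le_cent (cyclic_abelian (h.cyclic hG))).trans
      (cent_le_cent1 ((h.dprod hG).le_left hx))

theorem cent1_zhat (h : T7Pair M K S Z) (hx : x ∈ zhat K S) : 𝐂₁ x = Z :=
  le_antisymm ((h.zhat_normedTI hG).cent1_top hx)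
    ((abelian_le_cent (cyclic_abelian (h.cyclic hG))).trans
      (cent_le_cent1 (h.sup ▸ (mem_zhat.mp hx).1)))

theorem sigma_inf (h : T7Pair M K S Z) (h' : T7Pair L S K Z) (hne : M ≠ L) :
    sigmaCore M ⊓ (M ⊓ L) = S := by
  have hZ : Z ≤ M ⊓ L := le_inf (h.le hG) (h'.le hG)
  refine le_antisymm ?_ (le_inf h.S_le_sigma ((h.dprod hG).le_right.trans hZ))
  rw [← h.star]
  refine le_inf inf_le_left ?_
  have n1 : M ⊓ L ≤ 𝐍 (sigmaCore M ⊓ (M ⊓ L)) :=
    normsI (inf_le_left.trans (Msigma_normal M).norm) (normG _)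
  have n2 : M ⊓ L ≤ 𝐍 (sigmaCore L ⊓ (M ⊓ L)) :=
    normsI (inf_le_right.trans (Msigma_normal L).norm) (normG _)
  refine (TI_cents (inf_le_right.trans n2) (inf_le_right.trans n1) ?_).trans
    (centS (le_inf h'.S_le_sigma ((h.dprod hG).le_left.trans hZ)))
  exact coprime_TIg (pgroup_coprime_of_disjoint (pgroupS inf_le_left (Msigma_pgroup M))
    (pgroupS inf_le_left (Msigma_pgroup L)) (h.disjoint hG h' hne))

theorem inf_eq (h : T7Pair M K S Z) (h' : T7Pair L S K Z) (hne : M ≠ L) : M ⊓ L = Z := by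
  refine le_antisymm ?_ (le_inf (h.le hG) (h'.le hG))
  rw [← h'.norm hG]
  refine le_inf inf_le_right ?_
  rw [← h.sigma_inf hG h' hne]
  exact normsI (inf_le_left.trans (Msigma_normal M).norm) (normG _)

theorem sigma_Hall (h : T7Pair M K S Z) (h' : T7Pair L S K Z) (hne : M ≠ L) :
    IsPiHallOf (sigma M) S L := by
  obtain ⟨H, hH, hSH⟩ := Hall_superset (mmax_sol hG h'.max) (pHall_sub h'.hall) h.S_sigma
  have h1 : H ≤ sigmaCore M := by
    refine (Ptype_structure hG h.maxP h.hall).2.2.2.2.2.1 H (pHall_pgroup hH) ?_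
    rw [h.star, inf_eq_right.mpr hSH]
    exact h.S_ne hG
  have h2 : H ≤ S := h.sigma_inf hG h' hne ▸
    le_inf h1 (le_inf (h1.trans (Msigma_normal M).le) (pHall_sub hH))
  rwa [le_antisymm hSH h2]

theorem sdprod_der (h : T7Pair M K S Z) : SDProd ⁅M, M⁆ K M := by
  obtain ⟨U, hU, hUK, hM, -, hreg, -⟩ := (Ptype_structure hG h.maxP h.hall).1
  have h1 := (hUK.assoc' hM).2
  have hUM : U ≤ M := pHall_sub hU.hallU
  have h2 : ⁅M, M⁆ = sigmaCore M ⊔ U := by
    refine le_antisymm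
      (h1.der_le_left (cyclic_abelian (cyclicS (h.dprod hG).le_left (h.cyclic hG))))
      (sup_le (Msigma_der1 hG h.max) ?_)
    have := coprime_cent_prod hU.norm (hreg.coprime hU.norm)
      (Or.inr (sub_mmax_sol hG h.max hUM))
    rw [hreg.cent le_rfl h.K_ne, sup_bot_eq] at this
    exact this.ge.trans (commgSS hUM (pHall_sub h.hall))
  rwa [h2]

theorem kappa_eq (h : T7Pair M K S Z) : kappa M = tau1 M := by
  have h1 := h.sdprod_der hG
  ext p
  constructor
  · intro hp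
    refine (kappa_tau13 hp).resolve_right fun h3 => ?_
    have h4 := (h1.isPiHallOf_right_iff.mp h.hall).2
    exact h4 p (kappa_prime hp) (mem_tau3_iff.mp h3).2.2.2 hp
  · intro hp
    obtain ⟨h2, -, -, h3⟩ := mem_tau1_iff.mp hp
    exact pHall_pgroup h.hall p h2
      (((h1.prime_dvd_card_iff h2).mp (tau1_sub_pi M hp).2).resolve_left h3)

theorem ncard_zhat (h : T7Pair M K S Z) :
    (zhat K S).ncard + Nat.card K + Nat.card S = Nat.card K * Nat.card S + 1 := by
  have hd := h.dprod hG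
  have h1 : ((K : Set G) ∪ S) ⊆ (K ⊔ S : Subgroup G) :=
    Set.union_subset (SetLike.coe_subset_coe.mpr le_sup_left)
      (SetLike.coe_subset_coe.mpr le_sup_right)
  have h2 := Set.ncard_sdiff_add_ncard_of_subset h1
  have h3 := Set.ncard_union_add_ncard_inter (K : Set G) (S : Set G)
  rw [← Subgroup.coe_inf, hd.inf, ncard_coe_subgroup, ncard_coe_subgroup, ncard_coe_subgroup,
    Subgroup.card_bot] at h3
  rw [ncard_coe_subgroup, h.sup, ← hd.card] at h2
  rw [zhat, h.sup]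
  omega

theorem card_support_zhat (h : T7Pair M K S Z) :
    Nat.card G < 2 * (classSupport (zhat K S) ⊤).ncard := by
  rw [(h.zhat_normedTI hG).card_support_top, ← Z.card_mul_index, ← mul_assoc]
  refine Nat.mul_lt_mul_of_pos_right ?_ (Nat.pos_of_ne_zero Z.index_ne_zero_of_finite)
  have h1 := h.ncard_zhat hG
  have hc := h.coprime
  rw [← (h.dprod hG).card]
  have h2 := cardG_gt1.mpr h.K_ne
  have h3 := cardG_gt1.mpr (h.S_ne hG)
  obtain ⟨a, ha⟩ := (h.K_dg hG).odd hG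
  obtain ⟨b, hb⟩ := (h.S_dg hG).odd hG
  rw [ha, hb] at h1 hc
  rw [ha] at h2
  rw [hb] at h3
  rw [ha, hb]
  obtain ⟨a, rfl⟩ : ∃ a', a = a' + 1 := ⟨a - 1, by omega⟩
  obtain ⟨b, rfl⟩ : ∃ b', b = b' + 1 := ⟨b - 1, by omega⟩
  have : a + b ≠ 0 := by
    intro e
    obtain rfl : a = 0 := by omega
    obtain rfl : b = 0 := by omega
    norm_num at hc
  nlinarith [Nat.zero_le (a * b), Nat.pos_of_ne_zero this]

theorem conj_or (h : T7Pair M K S Z) (h' : T7Pair L S K Z) (hne : M ≠ L) {H : Subgroup G}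
    (hH : MaxP H) : ConjIn ⊤ M H ∨ ConjIn ⊤ L H := by
  obtain ⟨KH, hKH⟩ := ex_kappa_Hall hG hH.max
  have h1 := T7Pair.mk' hH hKH
  set SH := sigmaCore H ⊓ 𝐂 KH
  set ZH := KH ⊔ SH
  have h2 : ¬ Disjoint (classSupport (zhat KH SH) ⊤) (classSupport (zhat K S) ⊤) := by
    intro hd
    have e := Set.ncard_union_eq hd
    have := Set.ncard_le_ncard (Set.subset_univ
      (classSupport (zhat KH SH) ⊤ ∪ classSupport (zhat K S) ⊤))
    rw [Set.ncard_univ] at this
    have := h.card_support_zhat hG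
    have := h1.card_support_zhat hG
    omega
  rw [disjoint_classSupport_iff] at h2
  push Not at h2
  obtain ⟨x, hx, g, -, hg⟩ := h2
  have e : g •ᶜ ZH = Z := by rw [← h1.cent1_zhat hG hx, ← cent1J, h.cent1_zhat hG hg]
  have h3 := h1.conj g
  rw [e] at h3
  rcases h.eq_or_eq hG h' hne h3 with e | e
  · exact Or.inl (ConjIn.symm ⟨g, trivial, e.symm⟩)
  · exact Or.inr (ConjIn.symm ⟨g, trivial, e.symm⟩)

end T7Pair

end Cfsg.Lib.FT.PG
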